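import Cfsg.Agent.GraphAut.Congr
import Cfsg.Agent.Lib.Forms.Sesq
import Cfsg.Agent.Classical10.SpInvolTwo.Forms

/-!
Classification of non-degenerate symmetric and skew matrices over finite fields up to congruence and
similarity (helper10).
-/

set_option autoImplicit false
set_option linter.unusedSectionVars false
set_option linter.style.haveILetI false

namespace Cfsg.Agent.GraphAut

open Matrix
open Module (finrank)
open Cfsg.Agent.Classical10.SpInvolTwo (Isom exists_symplectic_map exists_model oddForm evenForm)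

universe u

variable {K : Type u} [Field K] {ι κ : Type} [Fintype ι] [DecidableEq ι] [Fintype κ] [DecidableEq κ]

/-- The bilinear map of a matrix. -/
noncomputable def blm (A : Matrix ι ι K) : LinearMap.BilinForm K (ι → K) := Matrix.toLinearMap₂' K A

theorem blm_apply (A : Matrix ι ι K) (u v : ι → K) : blm A u v = bf A u v :=
  Matrix.toLinearMap₂'_apply' A u v

theorem bf_transpose (A : Matrix ι ι K) (u v : ι → K) : bf Aᵀ u v = bf A v u := by
  rw [bf, bf, Matrix.mulVec_transpose, dotProduct_comm, ← Matrix.dotProduct_mulVec]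

theorem bf_smul (c : K) (A : Matrix ι ι K) (u v : ι → K) : bf (c • A) u v = c * bf A u v := by
  rw [bf, bf, Matrix.smul_mulVec, dotProduct_smul, smul_eq_mul]

theorem bf_neg (A : Matrix ι ι K) (u v : ι → K) : bf (-A) u v = -bf A u v := by
  rw [bf, bf, Matrix.neg_mulVec, dotProduct_neg]

theorem bf_nondeg {A : Matrix ι ι K} (hA : A.det ≠ 0) {x : ι → K} (h : ∀ y, bf A x y = 0) : x = 0 := by
  apply Matrix.eq_zero_of_vecMul_eq_zero hA
  funext j
  have := h (Pi.single j 1)
  rw [bf, Matrix.dotProduct_mulVec, dotProduct_single, mul_one] at this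
  exact this

theorem transpose_eq_of_symm {A : Matrix ι ι K} (h : ∀ u v, bf A u v = bf A v u) : Aᵀ = A :=
  matrix_ext fun u v => by rw [bf_transpose, h]

theorem sim_of_smul (c : Kˣ) (A : Matrix ι ι K) : Sim (bf A) (bf ((c : K) • A)) :=
  ⟨LinearEquiv.refl _ _, c, fun u v => by simp [bf_smul]⟩

/-- Similarity preserves the sign of the transpose. -/
theorem transpose_of_sim {A : Matrix ι ι K} {B : Matrix κ κ K} (h : Sim (bf A) (bf B)) (ε : K)
    (hB : Bᵀ = ε • B) : Aᵀ = ε • A := by
  obtain ⟨j, c, hj⟩ := h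
  refine matrix_ext fun u v => mul_left_cancel₀ c.ne_zero ?_
  rw [bf_transpose, bf_smul, ← hj, mul_left_comm, ← hj, ← bf_smul, ← hB, bf_transpose]

/-- Similarity preserves alternation. -/
theorem alt_of_sim {A : Matrix ι ι K} {B : Matrix κ κ K} (h : Sim (bf A) (bf B))
    (hB : ∀ v, bf B v v = 0) (v : ι → K) : bf A v v = 0 := by
  obtain ⟨j, c, hj⟩ := h
  have := hj v v
  rw [hB] at this
  exact (mul_eq_zero.1 this.symm).resolve_left c.ne_zero

theorem sign_unique {A : Matrix ι ι K} (h2 : (2 : K) ≠ 0) (hA : A.det ≠ 0) [Nonempty ι]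
    (h1 : Aᵀ = A) : ¬ Aᵀ = -A := by
  intro h
  have h3 : A = 0 := by
    ext i j
    have := congrFun (congrFun (h1.symm.trans h) i) j
    simp only [Matrix.neg_apply] at this
    exact (mul_eq_zero.1 (show (2 : K) * A i j = 0 by linear_combination this)).resolve_left h2
  exact hA (by rw [h3]; exact Matrix.det_zero)

theorem symm_of_odd {A : Matrix ι ι K} (h2 : (2 : K) ≠ 0) (hA : A.det ≠ 0)
    (hodd : Odd (Fintype.card ι)) (h : Aᵀ = A ∨ Aᵀ = -A) : Aᵀ = A := by
  refine h.resolve_right fun hs => hA ?_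
  have h1 := congrArg Matrix.det hs
  rw [Matrix.det_transpose, Matrix.det_neg, hodd.neg_one_pow] at h1
  exact (mul_eq_zero.1 (show (2 : K) * A.det = 0 by linear_combination h1)).resolve_left h2

/-- A non-degenerate alternating form is congruent to the symplectic form. -/
theorem cong_alt {A : Matrix ι ι K} (hA : A.det ≠ 0) (halt : ∀ v, bf A v v = 0) :
    ∃ k, Fintype.card ι = 2 * k ∧ Cong (bf (Matrix.J (Fin k) K)) (bf A) := by
  obtain ⟨k, j, hk, hji, hj, hB⟩ := exists_symplectic_map (blm A) ⊤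
    (fun x _ => (blm_apply A x x).trans (halt x))
    (fun x _ h => bf_nondeg hA fun y => (blm_apply A x y).symm.trans (h y trivial))
  rw [finrank_top, Module.finrank_pi] at hk
  refine ⟨k, hk, ⟨LinearEquiv.ofBijective j ⟨hji, fun x => (hj x).1 trivial⟩, fun u v => ?_⟩⟩
  rw [← blm_apply]
  exact hB u v

theorem cong_skew {A : Matrix ι ι K} (h2 : (2 : K) ≠ 0) (hA : A.det ≠ 0) (hs : Aᵀ = -A) :
    ∃ k, Fintype.card ι = 2 * k ∧ Cong (bf (Matrix.J (Fin k) K)) (bf A) := by
  refine cong_alt hA fun v => ?_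
  have h := bf_transpose A v v
  rw [hs, bf_neg] at h
  exact (mul_eq_zero.1 (show (2 : K) * bf A v v = 0 by linear_combination -h)).resolve_left h2

theorem exists_nonsquare [Finite K] (h2 : (2 : K) ≠ 0) : ∃ α : K, ¬ IsSquare α :=
  FiniteField.exists_nonsquare fun h => h2 (by
    haveI := ringChar.of_eq h
    exact CharP.cast_eq_zero K 2)

theorem isSquare_neg_or [Finite K] (h2 : (2 : K) ≠ 0) {a b : K} (ha : ¬ IsSquare a) (hb : ¬ IsSquare b) :
    IsSquare (a * b) := Forms.isSquare_mul_of_not_isSquare ha hb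

/-- Diagonal normal form. -/
theorem exists_diag [Finite K] (h2 : (2 : K) ≠ 0) (α : K) (hα : ¬ IsSquare α) {n : ℕ}
    {A : Matrix (Fin (n + 1)) (Fin (n + 1)) K} (hA : A.det ≠ 0) (hs : Aᵀ = A) :
    ∃ (P : GL (Fin (n + 1)) K) (d : K), (d = 1 ∨ d = α) ∧
      (P : Matrix (Fin (n + 1)) (Fin (n + 1)) K)ᵀ * A * (P : Matrix (Fin (n + 1)) (Fin (n + 1)) K) =
        Matrix.diagonal (Function.update (fun _ => (1 : K)) (Fin.last n) d) := by
  have hsymm : LinearMap.IsSymm (blm A) := ⟨fun u v => by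
    rw [RingHom.id_apply, blm_apply, blm_apply, ← bf_transpose, hs]⟩
  obtain ⟨b, -, hbo, hb1, hbl⟩ := Forms.exists_orthogonal_family_one_or_nonsquare (blm A) hsymm h2 α hα n ⊤
    (fun w _ h => bf_nondeg hA fun y => (blm_apply A w y).symm.trans (h y trivial))
    (by rw [finrank_top, Module.finrank_pi, Fintype.card_fin])
  let M : Matrix (Fin (n + 1)) (Fin (n + 1)) K := Matrix.of fun i j => b j i
  set d := blm A (b (Fin.last n)) (b (Fin.last n)) with hd
  have hM : Mᵀ * A * M = Matrix.diagonal (Function.update (fun _ => (1 : K)) (Fin.last n) d) := by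
    have hcol : ∀ i, M *ᵥ Pi.single i 1 = b i := fun i => by
      funext j; simp [M]
    ext i j
    have e : (Mᵀ * A * M) i j = blm A (b i) (b j) := by
      rw [blm_apply, ← hcol i, ← hcol j, bf, Matrix.mulVec_mulVec, Matrix.dotProduct_mulVec,
        ← Matrix.vecMul_transpose M (Pi.single i 1), Matrix.vecMul_vecMul, ← Matrix.mul_assoc]
      simp
    rw [e]
    by_cases hij : i = j
    · subst hij
      rw [Matrix.diagonal_apply_eq]
      by_cases hi : i = Fin.last n
      · subst hi; rw [Function.update_self]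
      · rw [Function.update_of_ne hi, hb1 i hi]
    · rw [Matrix.diagonal_apply_ne _ hij, hbo i j hij]
  have hdne : d ≠ 0 := by
    rcases hbl with h | h
    · rw [h]; exact one_ne_zero
    · rw [h]; rintro rfl; exact hα IsSquare.zero
  have hu : IsUnit M.det := by
    refine isUnit_iff_ne_zero.2 fun hz => hdne ?_
    have := congrArg Matrix.det hM
    rw [Matrix.det_mul, Matrix.det_mul, Matrix.det_transpose, hz, zero_mul, zero_mul, Matrix.det_diagonal,
      Finset.prod_update_of_mem (Finset.mem_univ _)] at this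
    simpa using this.symm
  exact ⟨Matrix.GeneralLinearGroup.mk'' M hu, d, hbl, hM⟩

theorem det_diag_last {n : ℕ} (d : K) :
    (Matrix.diagonal (Function.update (fun _ : Fin (n + 1) => (1 : K)) (Fin.last n) d)).det = d := by
  rw [Matrix.det_diagonal, Finset.prod_update_of_mem (Finset.mem_univ _)]
  simp

/-- Symmetric matrices whose determinants lie in the same square class are congruent. -/
theorem cong_of_isSquare [Finite K] (h2 : (2 : K) ≠ 0) {A B : Matrix ι ι K} (hA : A.det ≠ 0)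
    (hB : B.det ≠ 0) (hsA : Aᵀ = A) (hsB : Bᵀ = B) (hsq : IsSquare (A.det * B.det)) :
    Cong (bf A) (bf B) := by
  rcases Nat.eq_zero_or_pos (Fintype.card ι) with h0 | h0
  · haveI : IsEmpty ι := Fintype.card_eq_zero_iff.1 h0
    exact ⟨LinearEquiv.refl _ _, fun u v => by simp [bf, dotProduct]⟩
  obtain ⟨n, hn⟩ := Nat.exists_eq_succ_of_ne_zero h0.ne'
  obtain ⟨α, hα⟩ := exists_nonsquare h2
  let e : ι ≃ Fin (n + 1) := Fintype.equivFinOfCardEq hn
  suffices ∀ A B : Matrix (Fin (n + 1)) (Fin (n + 1)) K, A.det ≠ 0 → B.det ≠ 0 → Aᵀ = A → Bᵀ = B →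
      IsSquare (A.det * B.det) → Cong (bf A) (bf B) by
    refine ((cong_reindex e A).trans (this _ _ ?_ ?_ ?_ ?_ ?_)).trans (cong_reindex e B).symm
    · rwa [Matrix.det_reindex_self]
    · rwa [Matrix.det_reindex_self]
    · rw [Matrix.transpose_reindex, hsA]
    · rw [Matrix.transpose_reindex, hsB]
    · rwa [Matrix.det_reindex_self, Matrix.det_reindex_self]
  clear hA hB hsA hsB hsq A B
  intro A B hA hB hsA hsB hsq
  obtain ⟨P, d, hd, hP⟩ := exists_diag h2 α hα hA hsA
  obtain ⟨Q, e', he, hQ⟩ := exists_diag h2 α hα hB hsB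
  have hde : d = e' := by
    have h1 := congrArg Matrix.det hP
    have h3 := congrArg Matrix.det hQ
    rw [Matrix.det_mul, Matrix.det_mul, Matrix.det_transpose, det_diag_last] at h1 h3
    obtain ⟨r, hr⟩ := hsq
    have hsq' : IsSquare (d * e') :=
      ⟨(P : Matrix (Fin (n + 1)) (Fin (n + 1)) K).det * (Q : Matrix (Fin (n + 1)) (Fin (n + 1)) K).det * r,
        by rw [← h1, ← h3]; linear_combination ((P : Matrix (Fin (n + 1)) (Fin (n + 1)) K).det *
          (Q : Matrix (Fin (n + 1)) (Fin (n + 1)) K).det) ^ 2 * hr⟩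
    rcases hd with rfl | rfl <;> rcases he with rfl | rfl
    · rfl
    · exact absurd (by simpa using hsq') hα
    · exact absurd (by simpa using hsq') hα
    · rfl
  subst hde
  exact (cong_of_matrix P hP).symm.trans (cong_of_matrix Q hQ)

theorem sim_of_odd [Finite K] (h2 : (2 : K) ≠ 0) (hodd : Odd (Fintype.card ι)) {A B : Matrix ι ι K}
    (hA : A.det ≠ 0) (hB : B.det ≠ 0) (hsA : Aᵀ = A) (hsB : Bᵀ = B) : Sim (bf A) (bf B) := by
  obtain ⟨m, hm⟩ := hodd
  let c : Kˣ := Units.mk0 (B.det / A.det) (div_ne_zero hB hA)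
  refine (sim_of_smul c A).trans (cong_of_isSquare h2 ?_ hB ?_ hsB ?_).sim
  · rw [Matrix.det_smul]; exact mul_ne_zero (pow_ne_zero _ c.ne_zero) hA
  · rw [Matrix.transpose_smul, hsA]
  · refine ⟨(c : K) ^ m * B.det, ?_⟩
    rw [Matrix.det_smul, hm, show B.det = (c : K) * A.det from (div_mul_cancel₀ _ hA).symm]
    ring

theorem sim_even_iff [Finite K] (h2 : (2 : K) ≠ 0) (he : Even (Fintype.card ι)) {A B : Matrix ι ι K}
    (hA : A.det ≠ 0) (hB : B.det ≠ 0) (hsA : Aᵀ = A) (hsB : Bᵀ = B) :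
    Sim (bf A) (bf B) ↔ IsSquare (A.det * B.det) := by
  refine ⟨fun h => ?_, fun h => (cong_of_isSquare h2 hA hB hsA hsB h).sim⟩
  obtain ⟨P, c, hP⟩ := matrix_of_sim h
  have h1 := congrArg Matrix.det hP
  obtain ⟨m, hm⟩ := he
  rw [Matrix.det_mul, Matrix.det_mul, Matrix.det_transpose, Matrix.det_smul, hm] at h1
  have hP0 : (P : Matrix ι ι K).det ≠ 0 := Matrix.GeneralLinearGroup.det_ne_zero P
  refine ⟨(c : K) ^ m * A.det / (P : Matrix ι ι K).det, ?_⟩
  field_simp
  linear_combination h1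

section CharTwo

variable [CharP K 2] [Finite K]

theorem cong_of_isom {W : Type*} [AddCommGroup W] [Module K W] {γ : LinearMap.BilinForm K W}
    {A : Matrix ι ι K} {B : Matrix κ κ K} (f : Isom γ (blm A)) (g : Isom γ (blm B)) :
    Cong (bf A) (bf B) :=
  ⟨f.1.symm.trans g.1, fun u v => by
    rw [← blm_apply B, LinearEquiv.trans_apply, LinearEquiv.trans_apply, g.2, ← f.2,
      f.1.apply_symm_apply, f.1.apply_symm_apply, blm_apply]⟩

/-- In characteristic two all non-alternating symmetric forms of one dimension are congruent. -/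
theorem cong_of_not_alt {A B : Matrix ι ι K} (hA : A.det ≠ 0) (hB : B.det ≠ 0) (hsA : Aᵀ = A)
    (hsB : Bᵀ = B) (hnA : ∃ v, bf A v v ≠ 0) (hnB : ∃ v, bf B v v ≠ 0) : Cong (bf A) (bf B) := by
  haveI : Fact (Nat.Prime 2) := ⟨Nat.prime_two⟩
  haveI := Fintype.ofFinite K
  haveI : PerfectRing K 2 := PerfectRing.ofFiniteOfIsReduced 2 K
  have key : ∀ A : Matrix ι ι K, A.det ≠ 0 → Aᵀ = A → (∃ v, bf A v v ≠ 0) →
      (∃ k, finrank K (ι → K) = 2 * k + 1 ∧ Nonempty (Isom (oddForm K k) (blm A))) ∨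
      (∃ k, finrank K (ι → K) = 2 * k + 2 ∧ Nonempty (Isom (evenForm K k) (blm A))) := by
    intro A hA hs hn
    rcases exists_model (blm A) (fun x y => by rw [blm_apply, blm_apply, ← bf_transpose, hs])
      (fun x h => bf_nondeg hA fun y => (blm_apply A x y).symm.trans (h y)) with h | h | h
    · obtain ⟨v, hv⟩ := hn
      exact absurd ((blm_apply A v v).symm.trans (h.1 v)) hv
    · exact Or.inl h.2
    · exact Or.inr h.2
  rcases key A hA hsA hnA with ⟨k, hk, ⟨f⟩⟩ | ⟨k, hk, ⟨f⟩⟩ <;>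
    rcases key B hB hsB hnB with ⟨l, hl, ⟨g⟩⟩ | ⟨l, hl, ⟨g⟩⟩
  · obtain rfl : k = l := by omega
    exact cong_of_isom f g
  · omega
  · omega
  · obtain rfl : k = l := by omega
    exact cong_of_isom f g

theorem not_alt_of_odd {A : Matrix ι ι K} (hA : A.det ≠ 0) (hodd : Odd (Fintype.card ι)) :
    ∃ v, bf A v v ≠ 0 := by
  by_contra h
  push Not at h
  obtain ⟨k, hk, -⟩ := cong_alt hA h
  obtain ⟨m, hm⟩ := hodd
  omega

end CharTwo

end Cfsg.Agent.GraphAut
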