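import Cfsg.Prelude.Def_LieTypeDatum
import Mathlib.LinearAlgebra.Matrix.GeneralLinearGroup.Basic
import Mathlib.LinearAlgebra.Matrix.SesquilinearForm
import Mathlib.LinearAlgebra.GeneralLinearGroup.Basic

/-!
Congruence and similarity of matrix forms, and the projective similarity groups (helper10).
-/

set_option autoImplicit false

namespace Cfsg.Agent.GraphAut

open Matrix
open Cfsg (projQuot)

universe u

variable {K : Type u} [Field K] {ι κ τ : Type} [Fintype ι] [DecidableEq ι] [Fintype κ] [DecidableEq κ]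
  [Fintype τ] [DecidableEq τ]

/-- The form with matrix `A`. -/
def bf (A : Matrix ι ι K) : (ι → K) → (ι → K) → K := fun u v => u ⬝ᵥ (A *ᵥ v)

omit [DecidableEq ι] in
theorem bf_def (A : Matrix ι ι K) (u v : ι → K) : bf A u v = u ⬝ᵥ (A *ᵥ v) := rfl

/-- Congruence of forms. -/
def Cong (f : (κ → K) → (κ → K) → K) (g : (ι → K) → (ι → K) → K) : Prop :=
  ∃ j : (κ → K) ≃ₗ[K] (ι → K), ∀ u v, g (j u) (j v) = f u v

/-- Congruence up to a scalar. -/
def Sim (f : (κ → K) → (κ → K) → K) (g : (ι → K) → (ι → K) → K) : Prop :=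
  ∃ (j : (κ → K) ≃ₗ[K] (ι → K)) (c : Kˣ), ∀ u v, g (j u) (j v) = (c : K) * f u v

omit [Fintype ι] [DecidableEq ι] [Fintype κ] [DecidableEq κ] in
theorem Cong.sim {f : (κ → K) → (κ → K) → K} {g : (ι → K) → (ι → K) → K} (h : Cong f g) : Sim f g := by
  obtain ⟨j, hj⟩ := h
  exact ⟨j, 1, fun u v => by rw [hj, Units.val_one, one_mul]⟩

omit [Fintype ι] [DecidableEq ι] [Fintype κ] [DecidableEq κ] in
theorem Cong.symm {f : (κ → K) → (κ → K) → K} {g : (ι → K) → (ι → K) → K} (h : Cong f g) : Cong g f := by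
  obtain ⟨j, hj⟩ := h
  exact ⟨j.symm, fun u v => by rw [← hj, j.apply_symm_apply, j.apply_symm_apply]⟩

omit [Fintype ι] [DecidableEq ι] [Fintype κ] [DecidableEq κ] [Fintype τ] [DecidableEq τ] in
theorem Cong.trans {f : (κ → K) → (κ → K) → K} {g : (ι → K) → (ι → K) → K}
    {h : (τ → K) → (τ → K) → K} (h1 : Cong f g) (h2 : Cong g h) : Cong f h := by
  obtain ⟨j, hj⟩ := h1
  obtain ⟨k, hk⟩ := h2
  exact ⟨j.trans k, fun u v => by simp [hk, hj]⟩

omit [Fintype ι] [DecidableEq ι] in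
theorem Sim.refl (f : (ι → K) → (ι → K) → K) : Sim f f :=
  ⟨LinearEquiv.refl _ _, 1, fun u v => by simp⟩

omit [Fintype ι] [DecidableEq ι] [Fintype κ] [DecidableEq κ] in
theorem Sim.symm {f : (κ → K) → (κ → K) → K} {g : (ι → K) → (ι → K) → K} (h : Sim f g) : Sim g f := by
  obtain ⟨j, c, hj⟩ := h
  refine ⟨j.symm, c⁻¹, fun u v => ?_⟩
  conv_rhs => rw [← j.apply_symm_apply u, ← j.apply_symm_apply v, hj, ← mul_assoc]
  simp

omit [Fintype ι] [DecidableEq ι] [Fintype κ] [DecidableEq κ] [Fintype τ] [DecidableEq τ] in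
theorem Sim.trans {f : (κ → K) → (κ → K) → K} {g : (ι → K) → (ι → K) → K}
    {h : (τ → K) → (τ → K) → K} (h1 : Sim f g) (h2 : Sim g h) : Sim f h := by
  obtain ⟨j, c, hj⟩ := h1
  obtain ⟨k, d, hk⟩ := h2
  exact ⟨j.trans k, d * c, fun u v => by simp [hk, hj, mul_assoc]⟩

/-- Congruence from a matrix equation. -/
theorem cong_of_matrix {A B : Matrix ι ι K} (P : GL ι K)
    (h : (P : Matrix ι ι K)ᵀ * B * (P : Matrix ι ι K) = A) : Cong (bf A) (bf B) := by
  refine ⟨(Matrix.GeneralLinearGroup.toLin P).toLinearEquiv, fun u v => ?_⟩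
  show ((P : Matrix ι ι K) *ᵥ u) ⬝ᵥ (B *ᵥ ((P : Matrix ι ι K) *ᵥ v)) = u ⬝ᵥ (A *ᵥ v)
  rw [← h, ← Matrix.mulVec_mulVec, ← Matrix.mulVec_mulVec, Matrix.dotProduct_mulVec u,
    Matrix.vecMul_transpose]

theorem matrix_ext {A B : Matrix ι ι K} (h : ∀ u v, bf A u v = bf B u v) : A = B := by
  ext i j
  simpa [bf] using h (Pi.single i 1) (Pi.single j 1)

theorem matrix_of_sim {A B : Matrix ι ι K} (h : Sim (bf A) (bf B)) :
    ∃ (P : GL ι K) (c : Kˣ), (P : Matrix ι ι K)ᵀ * B * (P : Matrix ι ι K) = (c : K) • A := by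
  obtain ⟨j, c, hj⟩ := h
  refine ⟨Matrix.GeneralLinearGroup.toLin.symm (LinearMap.GeneralLinearGroup.ofLinearEquiv j), c,
    matrix_ext fun u v => ?_⟩
  set P := Matrix.GeneralLinearGroup.toLin.symm (LinearMap.GeneralLinearGroup.ofLinearEquiv j)
  have hP : ∀ w, (P : Matrix ι ι K) *ᵥ w = j w := fun w => by
    show LinearMap.toMatrix' j.toLinearMap *ᵥ w = j w
    rw [LinearMap.toMatrix'_mulVec]
    rfl
  show u ⬝ᵥ (_ *ᵥ v) = u ⬝ᵥ (_ *ᵥ v)
  rw [← Matrix.mulVec_mulVec, ← Matrix.mulVec_mulVec, Matrix.dotProduct_mulVec u,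
    Matrix.vecMul_transpose, hP, hP, Matrix.smul_mulVec, dotProduct_smul]
  exact hj u v

theorem cong_reindex (e : κ ≃ ι) (S : Matrix κ κ K) : Cong (bf S) (bf (Matrix.reindex e e S)) := by
  refine ⟨LinearEquiv.funCongrLeft K K e.symm, fun u v => ?_⟩
  show (u ∘ e.symm) ⬝ᵥ (S.submatrix e.symm e.symm *ᵥ (v ∘ e.symm)) = u ⬝ᵥ (S *ᵥ v)
  rw [Matrix.submatrix_mulVec_equiv, comp_equiv_dotProduct_comp_equiv]
  congr 2
  funext x
  simp

/-- The general linear groups along a linear equivalence. -/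
noncomputable def glEquiv (j : (κ → K) ≃ₗ[K] (ι → K)) : GL κ K ≃* GL ι K :=
  (Matrix.GeneralLinearGroup.toLin.trans (LinearMap.GeneralLinearGroup.congrLinearEquiv j)).trans
    Matrix.GeneralLinearGroup.toLin.symm

theorem glEquiv_mulVec (j : (κ → K) ≃ₗ[K] (ι → K)) (g : GL κ K) (u : ι → K) :
    (glEquiv j g : Matrix ι ι K) *ᵥ u = j ((g : Matrix κ κ K) *ᵥ j.symm u) := by
  show LinearMap.toMatrix' _ *ᵥ u = _
  rw [LinearMap.toMatrix'_mulVec]
  rfl

theorem glEquiv_mem_scalars (j : (κ → K) ≃ₗ[K] (ι → K)) (g : GL κ K) :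
    glEquiv j g ∈ Cfsg.Geo.scalars ι K ↔ g ∈ Cfsg.Geo.scalars κ K := by
  rw [Cfsg.Geo.mem_scalars_iff, Cfsg.Geo.mem_scalars_iff]
  refine exists_congr fun c => ⟨fun h => ?_, fun h => ?_⟩
  · refine Matrix.ext_of_mulVec_single fun i => j.injective ?_
    have := glEquiv_mulVec j g (j (Pi.single i 1))
    rw [h, Matrix.smul_mulVec, Matrix.one_mulVec, j.symm_apply_apply] at this
    rw [← this, Matrix.smul_mulVec, Matrix.one_mulVec, map_smul]
  · refine Matrix.ext_of_mulVec_single fun i => ?_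
    rw [glEquiv_mulVec, h, Matrix.smul_mulVec, Matrix.one_mulVec, Matrix.smul_mulVec,
      Matrix.one_mulVec, map_smul, j.apply_symm_apply]

theorem glEquiv_mem_similarity {f : (κ → K) → (κ → K) → K} {g : (ι → K) → (ι → K) → K}
    (j : (κ → K) ≃ₗ[K] (ι → K)) (c : Kˣ) (hj : ∀ u v, g (j u) (j v) = (c : K) * f u v) (x : GL κ K) :
    glEquiv j x ∈ Cfsg.Geo.similarityGroup g ↔ x ∈ Cfsg.Geo.similarityGroup f := by
  constructor
  · rintro ⟨d, hd⟩
    refine ⟨d, fun u v => ?_⟩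
    have h := hd (j u) (j v)
    rw [glEquiv_mulVec, glEquiv_mulVec, j.symm_apply_apply, j.symm_apply_apply, hj, hj] at h
    exact mul_left_cancel₀ c.ne_zero (h.trans (mul_left_comm _ _ _))
  · rintro ⟨d, hd⟩
    refine ⟨d, fun u v => ?_⟩
    rw [glEquiv_mulVec, glEquiv_mulVec, hj, hd, mul_left_comm, ← hj, j.apply_symm_apply,
      j.apply_symm_apply]

/-- Quotients by the scalars along an isomorphism of general linear groups. -/
theorem projQuot_congr (H : Subgroup (GL κ K)) (L : Subgroup (GL ι K)) (e : GL κ K ≃* GL ι K)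
    (hH : ∀ x, e x ∈ L ↔ x ∈ H) (hs : ∀ x, e x ∈ Cfsg.Geo.scalars ι K ↔ x ∈ Cfsg.Geo.scalars κ K) :
    Nonempty (projQuot H ≃* projQuot L) := by
  let φ : ↥H ≃* ↥L :=
    { toFun := fun x => ⟨e x.1, (hH x.1).2 x.2⟩
      invFun := fun y => ⟨e.symm y.1, (hH _).1 (by rw [e.apply_symm_apply]; exact y.2)⟩
      left_inv := fun x => Subtype.ext (e.symm_apply_apply _)
      right_inv := fun y => Subtype.ext (e.apply_symm_apply _)
      map_mul' := fun x y => Subtype.ext (map_mul e _ _) }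
  refine ⟨QuotientGroup.congr _ _ φ ?_⟩
  ext y
  rw [Subgroup.mem_map, Subgroup.mem_subgroupOf]
  constructor
  · rintro ⟨x, hx, rfl⟩
    exact (hs x.1).2 (Subgroup.mem_subgroupOf.1 hx)
  · intro hy
    refine ⟨φ.symm y, Subgroup.mem_subgroupOf.2 ((hs _).1 ?_), φ.apply_symm_apply y⟩
    show e (e.symm y.1) ∈ _
    rwa [e.apply_symm_apply]

/-- Similar forms have isomorphic projective similarity groups. -/
theorem sim_projQuot {f : (κ → K) → (κ → K) → K} {g : (ι → K) → (ι → K) → K} (h : Sim f g) :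
    Nonempty (projQuot (Cfsg.Geo.similarityGroup f) ≃* projQuot (Cfsg.Geo.similarityGroup g)) := by
  obtain ⟨j, c, hj⟩ := h
  exact projQuot_congr _ _ (glEquiv j) (glEquiv_mem_similarity j c hj) (glEquiv_mem_scalars j)

theorem det_of_similitude {A : Matrix ι ι K} (g : GL ι K) {c : K}
    (h : (g : Matrix ι ι K)ᵀ * A * (g : Matrix ι ι K) = c • A) :
    (g : Matrix ι ι K).det ^ 2 * A.det = c ^ Fintype.card ι * A.det := by
  have := congrArg Matrix.det h
  rw [Matrix.det_mul, Matrix.det_mul, Matrix.det_transpose, Matrix.det_smul] at this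
  linear_combination this

theorem mem_similarity_bf {A : Matrix ι ι K} {g : GL ι K} :
    g ∈ Cfsg.Geo.similarityGroup (bf A) ↔
      ∃ c : Kˣ, (g : Matrix ι ι K)ᵀ * A * (g : Matrix ι ι K) = (c : K) • A := by
  have e : ∀ u v, bf ((g : Matrix ι ι K)ᵀ * A * (g : Matrix ι ι K)) u v =
      bf A ((g : Matrix ι ι K) *ᵥ u) ((g : Matrix ι ι K) *ᵥ v) := fun u v => by
    rw [bf, bf, ← Matrix.mulVec_mulVec, ← Matrix.mulVec_mulVec, Matrix.dotProduct_mulVec u,
      Matrix.vecMul_transpose]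
  refine exists_congr fun c => ⟨fun h => matrix_ext fun u v => ?_, fun h u v => ?_⟩
  · rw [e, h, bf, bf, Matrix.smul_mulVec, dotProduct_smul, smul_eq_mul]
  · rw [← e, h, bf, bf, Matrix.smul_mulVec, dotProduct_smul, smul_eq_mul]

end Cfsg.Agent.GraphAut
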