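import Cfsg.Agent.GraphAut.Det
import Cfsg.Agent.AutPSL.FiniteField

/-!
Involutory graph automorphisms in terms of forms: the common part of the linear and unitary cases
(helper10).
-/

set_option autoImplicit false
set_option linter.unusedSectionVars false
set_option linter.style.haveILetI false

namespace Cfsg.Agent.GraphAut

open Matrix
open Cfsg (projQuot)

universe u w

/-- What the classification of the involutions of the class needs: a form for each of them. -/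
structure GraphData {X : Type w} [Group X] (G : Subgroup X) (P : X → Prop) (K : Type u) [Field K]
    (n : ℕ) where
  /-- The form `A` belongs to `γ`. -/
  R : X → Matrix (Fin n) (Fin n) K → Prop
  exist : ∀ A : Matrix (Fin n) (Fin n) K, A.det ≠ 0 → (Aᵀ = A ∨ Aᵀ = -A) → ∃ γ, R γ A ∧ P γ
  total : ∀ γ, P γ → ∃ A, R γ A ∧ A.det ≠ 0 ∧ (Aᵀ = A ∨ Aᵀ = -A)
  conj : ∀ γ γ' A A', R γ A → R γ' A' → (Cfsg.IsConjUnder G γ γ' ↔ Sim (bf A) (bf A'))
  cent : ∀ γ A, R γ A →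
    Nonempty (↥(G ⊓ Subgroup.centralizer {γ}) ≃* projQuot (Cfsg.Geo.similarityGroup (bf A)))

variable {X : Type w} [Group X] {G : Subgroup X} {P : X → Prop} {K : Type u} [Field K] [Finite K] {n : ℕ}

omit [Finite K] in
theorem cast_two_of_card_odd [Fintype K] (h : Odd (Fintype.card K)) : (2 : K) ≠ 0 :=
  UnitaryOrthogonal.two_ne_zero_of_card_odd h

omit [Finite K] in
theorem pgo_equiv {ι : Type} [Fintype ι] [DecidableEq ι] {Q : (ι → K) → K} {S : Matrix ι ι K}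
    (hQ : Cfsg.Geo.quadSimilarityGroup (F := K) Q = Cfsg.Geo.similarityGroup (bf S))
    {κ : Type} [Fintype κ] [DecidableEq κ] {A : Matrix κ κ K} (h : Sim (bf A) (bf S)) :
    Nonempty (projQuot (Cfsg.Geo.similarityGroup (bf A)) ≃* Cfsg.PGO K Q) := by
  show Nonempty (_ ≃* projQuot (Cfsg.Geo.quadSimilarityGroup (F := K) Q))
  rw [hQ]
  exact sim_projQuot h

theorem odd (D : GraphData G P K n) {m : ℕ} (hn : n = 2 * m + 1) {γ γ' : X} (hγ : P γ) (hγ' : P γ') :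
    Nonempty (↥(G ⊓ Subgroup.centralizer {γ}) ≃* Cfsg.PGO K (Cfsg.quadFormOdd m K)) ∧
      Cfsg.IsConjUnder G γ γ' := by
  obtain ⟨A, hA, hdA, hsA⟩ := D.total γ hγ
  obtain ⟨A', hA', hdA', hsA'⟩ := D.total γ' hγ'
  obtain ⟨e⟩ := D.cent γ A hA
  have hodd : Odd (Fintype.card (Fin n)) := by rw [Fintype.card_fin]; exact ⟨m, hn⟩
  rw [D.conj γ γ' A A' hA hA']
  by_cases h2 : (2 : K) = 0
  · haveI : CharP K 2 := CharTwo.of_one_ne_zero_of_two_eq_zero one_ne_zero h2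
    have hneg : ∀ A : Matrix (Fin n) (Fin n) K, -A = A := fun A =>
      Matrix.ext fun i j => by rw [Matrix.neg_apply, CharTwo.neg_eq]
    rw [hneg, or_self] at hsA hsA'
    obtain ⟨e'⟩ := projQuot_odd_two hn hdA hsA
    exact ⟨⟨e.trans e'⟩,
      (cong_of_not_alt hdA hdA' hsA hsA' (not_alt_of_odd hdA hodd) (not_alt_of_odd hdA' hodd)).sim⟩
  · have hs := symm_of_odd h2 hdA hodd hsA
    have hs' := symm_of_odd h2 hdA' hodd hsA'
    refine ⟨?_, sim_of_odd h2 hodd hdA hdA' hs hs'⟩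
    let i : Unit ⊕ (Fin m ⊕ Fin m) ≃ Fin n := Fintype.equivFinOfCardEq (by simp; omega)
    have hsim : Sim (bf A) (bf (symOdd m K)) :=
      (sim_of_odd h2 hodd hdA (B := Matrix.reindex i i (symOdd m K))
        (by rw [Matrix.det_reindex_self]; exact symOdd_det h2 m) hs
        (by rw [Matrix.transpose_reindex, symOdd_transpose])).trans (cong_reindex i _).symm.sim
    obtain ⟨e'⟩ := pgo_equiv (quadSim_odd h2 m) hsim
    exact ⟨e.trans e'⟩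

/-- The symplectic matrix on `Fin n`. -/
theorem exists_symp_model {m : ℕ} (hn : n = 2 * m) :
    ∃ A : Matrix (Fin n) (Fin n) K, A.det ≠ 0 ∧ Aᵀ = -A ∧ (∀ v, bf A v v = 0) ∧
      Cong (bf (Matrix.J (Fin m) K)) (bf A) := by
  let e : Fin m ⊕ Fin m ≃ Fin n := Fintype.equivFinOfCardEq (by simp; omega)
  refine ⟨Matrix.reindex e e (Matrix.J (Fin m) K), ?_, ?_, fun v => ?_, cong_reindex e _⟩
  · rw [Matrix.det_reindex_self, det_J]; exact one_ne_zero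
  · rw [Matrix.transpose_reindex, Matrix.J_transpose]; rfl
  · obtain ⟨j, hj⟩ := cong_reindex e (Matrix.J (Fin m) K)
    obtain ⟨u, rfl⟩ := j.surjective v
    rw [hj]
    exact Symplectic.sympForm_self u

theorem even_odd_char (D : GraphData G P K n) (h2 : (2 : K) ≠ 0) {m : ℕ} (hn : n = 2 * m) (hm : 1 ≤ m) :
    ∃ (γ₁ γ₂ γ₃ : X) (a b : K),
      (∀ z₁ z₂ : K, z₁ ^ 2 + a * z₁ * z₂ + b * z₂ ^ 2 = 0 → z₁ = 0 ∧ z₂ = 0) ∧ P γ₁ ∧ P γ₂ ∧ P γ₃ ∧
      ¬ Cfsg.IsConjUnder G γ₁ γ₂ ∧ ¬ Cfsg.IsConjUnder G γ₁ γ₃ ∧ ¬ Cfsg.IsConjUnder G γ₂ γ₃ ∧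
      (∀ γ, P γ → Cfsg.IsConjUnder G γ₁ γ ∨ Cfsg.IsConjUnder G γ₂ γ ∨ Cfsg.IsConjUnder G γ₃ γ) ∧
      Nonempty (↥(G ⊓ Subgroup.centralizer {γ₁}) ≃* Cfsg.PGSp m K) ∧
      Nonempty (↥(G ⊓ Subgroup.centralizer {γ₂}) ≃* Cfsg.PGO K (Cfsg.quadFormPlus m K)) ∧
      Nonempty (↥(G ⊓ Subgroup.centralizer {γ₃}) ≃* Cfsg.PGO K (Cfsg.quadFormMinus (m - 1) K a b)) := by
  obtain ⟨k, rfl⟩ : ∃ k, m = k + 1 := ⟨m - 1, by omega⟩
  obtain ⟨α, hα⟩ := exists_nonsquare h2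
  have hα0 : α ≠ 0 := fun h => hα (h ▸ IsSquare.zero)
  have h40 : (4 : K) * α ≠ 0 := mul_ne_zero (by rw [show (4 : K) = 2 * 2 by norm_num]; exact mul_ne_zero h2 h2) hα0
  obtain ⟨A₁, hd₁, ht₁, -, hc₁⟩ := exists_symp_model (K := K) hn
  let e₂ : Fin (k + 1) ⊕ Fin (k + 1) ≃ Fin n := Fintype.equivFinOfCardEq (by simp; omega)
  let e₃ : (Fin k ⊕ Fin k) ⊕ Fin 2 ≃ Fin n := Fintype.equivFinOfCardEq (by simp; omega)
  set A₂ := Matrix.reindex e₂ e₂ (symPlus (k + 1) K) with hA₂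
  set A₃ := Matrix.reindex e₃ e₃ (symMinus k α) with hA₃
  have hd₂' : A₂.det = (-1) ^ (k + 1) := by rw [hA₂, Matrix.det_reindex_self, symPlus_det]
  have hd₃' : A₃.det = (-1) ^ (k + 1) * (4 * α) := by rw [hA₃, Matrix.det_reindex_self, symMinus_det]
  have hd₂ : A₂.det ≠ 0 := by rw [hd₂']; exact pow_ne_zero _ (neg_ne_zero.2 one_ne_zero)
  have hd₃ : A₃.det ≠ 0 := by
    rw [hd₃']; exact mul_ne_zero (pow_ne_zero _ (neg_ne_zero.2 one_ne_zero)) h40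
  have ht₂ : A₂ᵀ = A₂ := by rw [hA₂, Matrix.transpose_reindex, symPlus_transpose]
  have ht₃ : A₃ᵀ = A₃ := by rw [hA₃, Matrix.transpose_reindex, symMinus_transpose]
  haveI : Nonempty (Fin n) := ⟨⟨0, by omega⟩⟩
  have heven : Even (Fintype.card (Fin n)) := by rw [Fintype.card_fin, hn]; exact even_two_mul _
  obtain ⟨γ₁, hR₁, hP₁⟩ := D.exist A₁ hd₁ (Or.inr ht₁)
  obtain ⟨γ₂, hR₂, hP₂⟩ := D.exist A₂ hd₂ (Or.inl ht₂)
  obtain ⟨γ₃, hR₃, hP₃⟩ := D.exist A₃ hd₃ (Or.inl ht₃)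
  have hns : ∀ A : Matrix (Fin n) (Fin n) K, A.det ≠ 0 → Aᵀ = A → ¬ Sim (bf A₁) (bf A) := fun A hA ht h => by
    have := transpose_of_sim h 1 (by rw [one_smul, ht])
    rw [one_smul] at this
    exact sign_unique h2 hd₁ this ht₁
  have hsq : ¬ IsSquare (A₂.det * A₃.det) := by
    rintro ⟨r, hr⟩
    rw [hd₂', hd₃', ← mul_assoc, ← mul_pow, neg_one_mul, neg_neg, one_pow, one_mul] at hr
    refine hα ⟨r / 2, ?_⟩
    field_simp
    linear_combination hr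
  refine ⟨γ₁, γ₂, γ₃, 0, -α, binary_aniso hα, hP₁, hP₂, hP₃, ?_, ?_, ?_, fun γ hγ => ?_, ?_, ?_, ?_⟩
  · rw [D.conj _ _ _ _ hR₁ hR₂]; exact hns A₂ hd₂ ht₂
  · rw [D.conj _ _ _ _ hR₁ hR₃]; exact hns A₃ hd₃ ht₃
  · rw [D.conj _ _ _ _ hR₂ hR₃, sim_even_iff h2 heven hd₂ hd₃ ht₂ ht₃]; exact hsq
  · obtain ⟨A, hR, hd, hs | hs⟩ := D.total γ hγ
    · right
      by_cases h : IsSquare (A₂.det * A.det)
      · left; rw [D.conj _ _ _ _ hR₂ hR, sim_even_iff h2 heven hd₂ hd ht₂ hs]; exact h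
      · right
        rw [D.conj _ _ _ _ hR₃ hR, sim_even_iff h2 heven hd₃ hd ht₃ hs]
        obtain ⟨r, hr⟩ := isSquare_neg_or h2 hsq h
        refine ⟨r / A₂.det, ?_⟩
        field_simp
        linear_combination hr
    · left
      obtain ⟨l, hl, hc⟩ := cong_skew h2 hd hs
      obtain rfl : l = k + 1 := by rw [Fintype.card_fin] at hl; omega
      rw [D.conj _ _ _ _ hR₁ hR]
      exact (hc₁.symm.trans hc).sim
  · obtain ⟨e⟩ := D.cent _ _ hR₁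
    obtain ⟨e'⟩ := sim_projQuot hc₁.symm.sim
    exact ⟨e.trans e'⟩
  · obtain ⟨e⟩ := D.cent _ _ hR₂
    obtain ⟨e'⟩ := pgo_equiv (quadSim_plus h2 (k + 1)) (cong_reindex e₂ _).symm.sim
    exact ⟨e.trans e'⟩
  · obtain ⟨e⟩ := D.cent _ _ hR₃
    obtain ⟨e'⟩ := pgo_equiv (quadSim_minus h2 k α) (cong_reindex e₃ _).symm.sim
    exact ⟨e.trans e'⟩

theorem even_char_two [CharP K 2] (D : GraphData G P K n) {m : ℕ} (hn : n = 2 * m) (hm : 1 ≤ m) :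
    ∃ (γ₁ γ₃ : X) (t : ↥(Matrix.symplecticGroup (Fin m) K)),
      Cfsg.IsTransvection (t : Matrix (Fin m ⊕ Fin m) (Fin m ⊕ Fin m) K) ∧ P γ₁ ∧ P γ₃ ∧
      ¬ Cfsg.IsConjUnder G γ₁ γ₃ ∧
      (∀ γ, P γ → Cfsg.IsConjUnder G γ₁ γ ∨ Cfsg.IsConjUnder G γ₃ γ) ∧
      Nonempty (↥(G ⊓ Subgroup.centralizer {γ₁}) ≃* ↥(Matrix.symplecticGroup (Fin m) K)) ∧
      Nonempty (↥(G ⊓ Subgroup.centralizer {γ₃}) ≃*
        ↥(Subgroup.centralizer ({t} : Set ↥(Matrix.symplecticGroup (Fin m) K)))) := by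
  obtain ⟨A₁, hd₁, ht₁, halt₁, hc₁⟩ := exists_symp_model (K := K) hn
  obtain ⟨γ₁, hR₁, hP₁⟩ := D.exist A₁ hd₁ (Or.inr ht₁)
  obtain ⟨γ₃, hR₃, hP₃⟩ := D.exist 1 (by simp) (Or.inl Matrix.transpose_one)
  have hn1 : ∃ v, bf (1 : Matrix (Fin n) (Fin n) K) v v ≠ 0 :=
    ⟨Pi.single ⟨0, by omega⟩ 1, by simp [bf]⟩
  obtain ⟨t, ht, ⟨et⟩⟩ := isoGrp_one_even (K := K) hm hn
  refine ⟨γ₁, γ₃, t, ht, hP₁, hP₃, ?_, fun γ hγ => ?_, ?_, ?_⟩
  · rw [D.conj _ _ _ _ hR₁ hR₃]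
    intro h
    obtain ⟨v, hv⟩ := hn1
    exact hv (alt_of_sim h.symm halt₁ v)
  · obtain ⟨A, hR, hd, hs⟩ := D.total γ hγ
    have hneg : -A = A := Matrix.ext fun i j => by rw [Matrix.neg_apply, CharTwo.neg_eq]
    rw [hneg, or_self] at hs
    by_cases halt : ∀ v, bf A v v = 0
    · left
      obtain ⟨l, hl, hc⟩ := cong_alt hd halt
      obtain rfl : l = m := by rw [Fintype.card_fin] at hl; omega
      rw [D.conj _ _ _ _ hR₁ hR]
      exact (hc₁.symm.trans hc).sim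
    · right
      rw [D.conj _ _ _ _ hR₃ hR]
      push Not at halt
      exact (cong_of_not_alt (by simp) hd Matrix.transpose_one hs hn1 halt).sim
  · obtain ⟨e⟩ := D.cent _ _ hR₁
    obtain ⟨e'⟩ := sim_projQuot hc₁.symm.sim
    obtain ⟨e''⟩ := pgsp_two (K := K) hm
    exact ⟨e.trans (e'.trans e'')⟩
  · obtain ⟨e⟩ := D.cent _ _ hR₃
    haveI : Nonempty (Fin n) := ⟨⟨0, by omega⟩⟩
    obtain ⟨e'⟩ := projQuot_sim_two (A := (1 : Matrix (Fin n) (Fin n) K)) one_ne_zero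
    exact ⟨e.trans (e'.trans et)⟩

/-- The two types in even dimension and odd characteristic. -/
theorem types (D : GraphData G P K n) (h2 : (2 : K) ≠ 0) {m : ℕ} (hn : n = 2 * m) (hm : 2 ≤ m) {γ : X}
    (hγ : P γ) : ∃ A, D.R γ A ∧ A.det ≠ 0 ∧
      ((Nonempty (↥(G ⊓ Subgroup.centralizer {γ}) ≃* Cfsg.PGSp m K) → ∀ v, bf A v v = 0) ∧
        (¬ Nonempty (↥(G ⊓ Subgroup.centralizer {γ}) ≃* Cfsg.PGSp m K) → Aᵀ = A)) := by
  obtain ⟨A, hR, hd, hs⟩ := D.total γ hγ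
  obtain ⟨e⟩ := D.cent γ A hR
  refine ⟨A, hR, hd, fun ⟨h⟩ v => ?_, fun h => hs.resolve_right fun hs => h ?_⟩
  · rcases hs with hs | hs
    · exact absurd ⟨e.symm.trans h⟩ (not_iso_pgsp h2 hn hm hd hs)
    · have h' := bf_transpose A v v
      rw [hs, bf_neg] at h'
      exact (mul_eq_zero.1 (show (2 : K) * bf A v v = 0 by linear_combination -h')).resolve_left h2
  · obtain ⟨l, hl, hc⟩ := cong_skew h2 hd hs
    obtain rfl : l = m := by rw [Fintype.card_fin] at hl; omega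
    obtain ⟨e'⟩ := sim_projQuot hc.symm.sim
    exact ⟨e.trans e'⟩

/-! ### Indices in cyclic groups -/

variable {C : Type u} [CommGroup C] [IsCyclic C] [Finite C]

theorem index_pow_range (k : ℕ) : ((powMonoidHom k : C →* C).range).index = Nat.gcd k (Nat.card C) := by
  rw [IsCyclic.index_powMonoidHom_range, Nat.gcd_comm]

theorem index_pow_sup (m : ℕ) :
    ((powMonoidHom m : C →* C).range ⊔ (powMonoidHom (2 * m) : C →* C).range).index =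
      Nat.gcd m (Nat.card C) := by
  rw [AutPSL.index_sup_powMonoidHom, index_pow_range, ← Nat.gcd_assoc, Nat.gcd_mul_left_left]

theorem index_pm_sup (m : ℕ) (h : 2 ∣ Nat.card C) :
    ((powMonoidHom 2 : C →* C).ker ⊔ (powMonoidHom m : C →* C).range ⊔
      (powMonoidHom (2 * m) : C →* C).range).index = Nat.gcd (2 * m) (Nat.card C) / 2 := by
  rw [AutPSL.index_sup_powMonoidHom, AutPSL.index_sup_powMonoidHom]
  have h1 := (powMonoidHom 2 : C →* C).ker.card_mul_index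
  rw [IsCyclic.card_powMonoidHom_ker, Nat.gcd_eq_right h] at h1
  rw [← Nat.gcd_assoc, Nat.gcd_mul_left_left, ← h1, Nat.gcd_mul_left, Nat.mul_div_cancel_left _ (by norm_num)]

end Cfsg.Agent.GraphAut
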