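import Cfsg.Agent.GraphAut.Models
import Cfsg.Agent.Lib.Symplectic.Card
import Cfsg.Prelude.Def_LieTypeDatum

/-!
Determinants of similitudes, and the symplectic and orthogonal projective similarity groups have
different orders (helper10).
-/

set_option autoImplicit false
set_option linter.unusedSectionVars false
set_option linter.style.haveILetI false

namespace Cfsg.Agent.GraphAut

open Matrix
open Cfsg (projQuot)

universe u

variable {K : Type u} [Field K] {ι κ : Type} [Fintype ι] [DecidableEq ι] [Fintype κ] [DecidableEq κ]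

theorem cong_matrix {A B : Matrix ι ι K} (h : Cong (bf A) (bf B)) :
    ∃ P : GL ι K, (P : Matrix ι ι K)ᵀ * B * (P : Matrix ι ι K) = A := by
  obtain ⟨j, hj⟩ := h
  refine ⟨Matrix.GeneralLinearGroup.toLin.symm (LinearMap.GeneralLinearGroup.ofLinearEquiv j),
    matrix_ext fun u v => ?_⟩
  set P := Matrix.GeneralLinearGroup.toLin.symm (LinearMap.GeneralLinearGroup.ofLinearEquiv j)
  have hP : ∀ w, (P : Matrix ι ι K) *ᵥ w = j w := fun w => by
    show LinearMap.toMatrix' j.toLinearMap *ᵥ w = j w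
    rw [LinearMap.toMatrix'_mulVec]
    rfl
  rw [← bf_conj, hP, hP, hj]

/-- Transport of a similitude along a congruence. -/
theorem transport {A B : Matrix ι ι K} {c : K} (P : GL ι K)
    (hP : (P : Matrix ι ι K)ᵀ * B * (P : Matrix ι ι K) = A) {M : Matrix ι ι K} (hM : Mᵀ * B * M = c • B) :
    (((P⁻¹ : GL ι K) : Matrix ι ι K) * M * (P : Matrix ι ι K))ᵀ * A *
      (((P⁻¹ : GL ι K) : Matrix ι ι K) * M * (P : Matrix ι ι K)) = c • A := by
  have hPP : (P : Matrix ι ι K) * ((P⁻¹ : GL ι K) : Matrix ι ι K) = 1 := P.mul_inv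
  set Q := ((P⁻¹ : GL ι K) : Matrix ι ι K)
  set P' := (P : Matrix ι ι K)
  calc (Q * M * P')ᵀ * A * (Q * M * P')
      = P'ᵀ * Mᵀ * (P' * Q)ᵀ * B * (P' * Q) * (M * P') := by
        rw [← hP]; simp only [Matrix.transpose_mul, Matrix.mul_assoc]
    _ = P'ᵀ * (Mᵀ * B * M) * P' := by
        rw [hPP]; simp only [Matrix.transpose_one, Matrix.mul_one, Matrix.mul_assoc]
    _ = c • A := by rw [hM, ← hP, Matrix.mul_smul, Matrix.smul_mul]

theorem det_conj (P : GL ι K) (M : Matrix ι ι K) :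
    (((P⁻¹ : GL ι K) : Matrix ι ι K) * M * (P : Matrix ι ι K)).det = M.det := by
  rw [Matrix.det_mul, Matrix.det_mul, mul_comm _ M.det, mul_assoc, ← Matrix.det_mul, P.inv_mul,
    Matrix.det_one, mul_one]

/-- The multiplier is a square and the determinant a power, in odd dimension or characteristic two. -/
theorem det_sim_power [Finite K] {A : Matrix ι ι K} (hA : A.det ≠ 0)
    (h : Odd (Fintype.card ι) ∨ (2 : K) = 0) (g : GL ι K) (c : Kˣ)
    (hg : (g : Matrix ι ι K)ᵀ * A * (g : Matrix ι ι K) = (c : K) • A) :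
    ∃ d : Kˣ, c = d * d ∧ Matrix.GeneralLinearGroup.det g = d ^ Fintype.card ι := by
  have h1 := mul_right_cancel₀ hA (det_of_similitude g hg)
  set D := Matrix.GeneralLinearGroup.det g with hD
  have hDv : (D : K) = (g : Matrix ι ι K).det := Matrix.GeneralLinearGroup.val_det_apply g
  have h2 : D ^ 2 = c ^ Fintype.card ι := Units.ext (by simpa [hDv] using h1)
  rcases h with ⟨m, hm⟩ | h
  · refine ⟨D / c ^ m, ?_, ?_⟩
    · rw [div_mul_div_comm, ← pow_two, h2, hm, ← pow_add, two_mul, pow_succ, mul_div_cancel_left]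
    · have hs : (D / c ^ m) ^ 2 = c := by
        rw [div_pow, h2, hm, ← pow_mul, mul_comm m, pow_succ, mul_div_cancel_left]
      rw [hm, pow_succ, pow_mul, hs, mul_div_cancel]
  · haveI : CharP K 2 := CharTwo.of_one_ne_zero_of_two_eq_zero one_ne_zero h
    obtain ⟨d, hd⟩ := exists_sq c
    refine ⟨d, Units.ext hd.symm, Units.ext ?_⟩
    rw [Units.val_pow_eq_pow_val, hDv]
    refine CharTwo.sq_inj.1 ?_
    rw [h1, ← hd, ← pow_two, ← pow_mul, ← pow_mul, mul_comm]

theorem det_sim_symm {A : Matrix ι ι K} (hA : A.det ≠ 0) {m : ℕ} (hm : Fintype.card ι = 2 * m)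
    (g : GL ι K) (c : Kˣ) (hg : (g : Matrix ι ι K)ᵀ * A * (g : Matrix ι ι K) = (c : K) • A) :
    (g : Matrix ι ι K).det = (c : K) ^ m ∨ (g : Matrix ι ι K).det = -(c : K) ^ m := by
  have h1 := mul_right_cancel₀ hA (det_of_similitude g hg)
  rw [hm, mul_comm 2 m, pow_mul] at h1
  exact sq_eq_sq_iff_eq_or_eq_neg.1 h1

/-- `diag(1, c)`. -/
def diagSim (m : ℕ) (c : K) : Matrix (Fin m ⊕ Fin m) (Fin m ⊕ Fin m) K :=
  Matrix.fromBlocks 1 0 0 (c • 1)

theorem diagSim_sim (m : ℕ) (c : K) :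
    (diagSim m c)ᵀ * Matrix.J (Fin m) K * diagSim m c = c • Matrix.J (Fin m) K := by
  simp [diagSim, Matrix.J, Matrix.fromBlocks_transpose, Matrix.fromBlocks_multiply, Matrix.fromBlocks_smul]

theorem diagSim_det (m : ℕ) (c : K) : (diagSim m c).det = c ^ m := by
  simp [diagSim, Matrix.det_fromBlocks_zero₂₁]

theorem det_sim_alt {A : Matrix ι ι K} (hA : A.det ≠ 0) (halt : ∀ v, bf A v v = 0) {m : ℕ}
    (hm : Fintype.card ι = 2 * m) :
    (∀ (g : GL ι K) (c : Kˣ), (g : Matrix ι ι K)ᵀ * A * (g : Matrix ι ι K) = (c : K) • A →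
      (g : Matrix ι ι K).det = (c : K) ^ m) ∧
    ∀ c : Kˣ, ∃ g : GL ι K, (g : Matrix ι ι K)ᵀ * A * (g : Matrix ι ι K) = (c : K) • A ∧
      (g : Matrix ι ι K).det = (c : K) ^ m := by
  obtain ⟨k, hk, hc⟩ := cong_alt hA halt
  obtain rfl : k = m := by omega
  let e : Fin k ⊕ Fin k ≃ ι := Fintype.equivOfCardEq (by simp; omega)
  obtain ⟨P, hP⟩ := cong_matrix ((cong_reindex e (Matrix.J (Fin k) K)).symm.trans hc)
  -- `Pᵀ A P = J'`, hence `(P⁻¹)ᵀ J' P⁻¹ = A`
  set J' := Matrix.reindex e e (Matrix.J (Fin k) K) with hJ'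
  have hP' : ((P⁻¹ : GL ι K) : Matrix ι ι K)ᵀ * J' * ((P⁻¹ : GL ι K) : Matrix ι ι K) = A := by
    rw [← hP]
    calc _ = ((P : Matrix ι ι K) * ((P⁻¹ : GL ι K) : Matrix ι ι K))ᵀ * A *
        ((P : Matrix ι ι K) * ((P⁻¹ : GL ι K) : Matrix ι ι K)) := by
          simp only [Matrix.transpose_mul, Matrix.mul_assoc]
      _ = A := by rw [P.mul_inv, Matrix.transpose_one, Matrix.one_mul, Matrix.mul_one]
  have hsub : ∀ (M : Matrix (Fin k ⊕ Fin k) (Fin k ⊕ Fin k) K),
      (Matrix.reindex e e M)ᵀ * J' * Matrix.reindex e e M =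
        Matrix.reindex e e (Mᵀ * Matrix.J (Fin k) K * M) := fun M => by
    simp only [hJ', Matrix.reindex_apply, Matrix.transpose_submatrix, Matrix.submatrix_mul_equiv]
  have hsmul : ∀ c : K, Matrix.reindex e e (c • Matrix.J (Fin k) K) = c • J' := fun c => rfl
  refine ⟨fun g c hg => ?_, fun c => ?_⟩
  · have h1 := transport P hP hg
    set M := ((P⁻¹ : GL ι K) : Matrix ι ι K) * (g : Matrix ι ι K) * (P : Matrix ι ι K) with hMdef
    set M0 := (Matrix.reindex e e).symm M with hM0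
    have hMM : M = Matrix.reindex e e M0 := (Equiv.apply_symm_apply _ _).symm
    rw [hMM, hsub, ← hsmul] at h1
    have h2 := (Matrix.reindex e e).injective h1
    have hw : diagSim k ((c : K)⁻¹) * M0 ∈ Matrix.symplecticGroup (Fin k) K := by
      rw [SymplecticGroup.mem_iff', Matrix.transpose_mul]
      calc M0ᵀ * (diagSim k (c : K)⁻¹)ᵀ * Matrix.J (Fin k) K * (diagSim k (c : K)⁻¹ * M0)
          = M0ᵀ * ((diagSim k (c : K)⁻¹)ᵀ * Matrix.J (Fin k) K * diagSim k (c : K)⁻¹) * M0 := by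
            simp only [Matrix.mul_assoc]
        _ = Matrix.J (Fin k) K := by
            rw [diagSim_sim, Matrix.mul_smul, Matrix.smul_mul, h2, smul_smul, inv_mul_cancel₀ c.ne_zero,
              one_smul]
    have h3 := SymplecticGroup.det_eq_one hw
    rw [Matrix.det_mul, diagSim_det, inv_pow, inv_mul_eq_one₀ (pow_ne_zero _ c.ne_zero)] at h3
    rw [← det_conj P, ← hMdef, hMM, Matrix.det_reindex_self, h3]
  · have h1 := transport P⁻¹ hP' (M := Matrix.reindex e e (diagSim k (c : K)))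
      (c := (c : K)) (by rw [hsub, diagSim_sim, hsmul])
    set M := ((P⁻¹⁻¹ : GL ι K) : Matrix ι ι K) * Matrix.reindex e e (diagSim k (c : K)) *
      ((P⁻¹ : GL ι K) : Matrix ι ι K) with hMdef
    have hd : M.det = (c : K) ^ k := by rw [hMdef, det_conj, Matrix.det_reindex_self, diagSim_det]
    exact ⟨Matrix.GeneralLinearGroup.mk'' M (isUnit_iff_ne_zero.2 (hd ▸ pow_ne_zero _ c.ne_zero)), h1, hd⟩

theorem exists_sim_symm [Finite K] (h2 : (2 : K) ≠ 0) {A : Matrix ι ι K} (hA : A.det ≠ 0) (hs : Aᵀ = A)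
    {m : ℕ} (hm : Fintype.card ι = 2 * m) (hm1 : 1 ≤ m) (c : Kˣ) :
    (∃ g : GL ι K, (g : Matrix ι ι K)ᵀ * A * (g : Matrix ι ι K) = (c : K) • A ∧
      (g : Matrix ι ι K).det = (c : K) ^ m) ∧
    ∃ g : GL ι K, (g : Matrix ι ι K)ᵀ * A * (g : Matrix ι ι K) = (c : K) • A ∧
      (g : Matrix ι ι K).det = -(c : K) ^ m := by
  -- a reflection
  obtain ⟨r, hr, hrd⟩ : ∃ r : GL ι K, (r : Matrix ι ι K)ᵀ * A * (r : Matrix ι ι K) = A ∧
      (r : Matrix ι ι K).det = -1 := by
    obtain ⟨α, hα⟩ := exists_nonsquare h2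
    obtain ⟨n, hn⟩ := Nat.exists_eq_succ_of_ne_zero (show Fintype.card ι ≠ 0 by omega)
    let e : ι ≃ Fin (n + 1) := Fintype.equivFinOfCardEq hn
    obtain ⟨P, d, -, hP⟩ := exists_diag h2 α hα (A := Matrix.reindex e e A)
      (by rwa [Matrix.det_reindex_self]) (by rw [Matrix.transpose_reindex, hs])
    set E : Matrix (Fin (n + 1)) (Fin (n + 1)) K :=
      Matrix.diagonal (Function.update (fun _ => (1 : K)) (Fin.last n) (-1)) with hE
    set D : Matrix (Fin (n + 1)) (Fin (n + 1)) K :=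
      Matrix.diagonal (Function.update (fun _ => (1 : K)) (Fin.last n) d)
    have hED : Eᵀ * D * E = (1 : K) • D := by
      rw [one_smul, hE, Matrix.diagonal_transpose, Matrix.diagonal_mul_diagonal, Matrix.diagonal_mul_diagonal]
      congr 1
      funext i
      by_cases hi : i = Fin.last n <;> simp [hi]
    have hP' : ((P⁻¹ : GL (Fin (n + 1)) K) : Matrix (Fin (n + 1)) (Fin (n + 1)) K)ᵀ * D *
        ((P⁻¹ : GL (Fin (n + 1)) K) : Matrix (Fin (n + 1)) (Fin (n + 1)) K) = Matrix.reindex e e A := by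
      rw [show D = _ from hP.symm]
      calc _ = ((P : Matrix (Fin (n + 1)) (Fin (n + 1)) K) *
            ((P⁻¹ : GL (Fin (n + 1)) K) : Matrix (Fin (n + 1)) (Fin (n + 1)) K))ᵀ * Matrix.reindex e e A *
            ((P : Matrix (Fin (n + 1)) (Fin (n + 1)) K) *
            ((P⁻¹ : GL (Fin (n + 1)) K) : Matrix (Fin (n + 1)) (Fin (n + 1)) K)) := by
              simp only [Matrix.transpose_mul, Matrix.mul_assoc]
        _ = _ := by rw [P.mul_inv, Matrix.transpose_one, Matrix.one_mul, Matrix.mul_one]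
    have h1 := transport P⁻¹ hP' hED
    rw [one_smul] at h1
    set M := ((P⁻¹⁻¹ : GL (Fin (n + 1)) K) : Matrix (Fin (n + 1)) (Fin (n + 1)) K) * E *
      ((P⁻¹ : GL (Fin (n + 1)) K) : Matrix (Fin (n + 1)) (Fin (n + 1)) K) with hMdef
    have hd : (Matrix.reindex e.symm e.symm M).det = -1 := by
      rw [Matrix.det_reindex_self, hMdef, det_conj, hE, det_diag_last]
    refine ⟨Matrix.GeneralLinearGroup.mk'' (Matrix.reindex e.symm e.symm M)
      (isUnit_iff_ne_zero.2 (hd ▸ neg_ne_zero.2 one_ne_zero)), ?_, hd⟩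
    have h3 := congrArg (Matrix.reindex e.symm e.symm) h1
    show (Matrix.reindex e.symm e.symm M)ᵀ * A * Matrix.reindex e.symm e.symm M = A
    calc (Matrix.reindex e.symm e.symm M)ᵀ * A * Matrix.reindex e.symm e.symm M
        = (Matrix.reindex e.symm e.symm M)ᵀ *
            Matrix.reindex e.symm e.symm (Matrix.reindex e e A) * Matrix.reindex e.symm e.symm M := by
          congr 2
          ext i j; simp
      _ = Matrix.reindex e.symm e.symm (Mᵀ * Matrix.reindex e e A * M) := by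
          simp only [Matrix.reindex_apply, Matrix.transpose_submatrix, Matrix.submatrix_mul_equiv]
      _ = A := by rw [h3]; ext i j; simp
  obtain ⟨g, hg⟩ := cong_matrix (cong_of_isSquare h2 (A := (c : K) • A) (B := A)
    (by rw [Matrix.det_smul]; exact mul_ne_zero (pow_ne_zero _ c.ne_zero) hA) hA
    (by rw [Matrix.transpose_smul, hs]) hs
    ⟨(c : K) ^ m * A.det, by rw [Matrix.det_smul, hm]; ring⟩)
  have hrg : ((r * g : GL ι K) : Matrix ι ι K)ᵀ * A * ((r * g : GL ι K) : Matrix ι ι K) = (c : K) • A := by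
    calc _ = (g : Matrix ι ι K)ᵀ * ((r : Matrix ι ι K)ᵀ * A * (r : Matrix ι ι K)) * (g : Matrix ι ι K) := by
          simp only [Units.val_mul, Matrix.transpose_mul, Matrix.mul_assoc]
      _ = _ := by rw [hr, hg]
  have hrgd : ((r * g : GL ι K) : Matrix ι ι K).det = -(g : Matrix ι ι K).det := by
    rw [Units.val_mul, Matrix.det_mul, hrd, neg_one_mul]
  rcases det_sim_symm hA hm g c hg with h | h
  · exact ⟨⟨g, hg, h⟩, r * g, hrg, by rw [hrgd, h]⟩
  · exact ⟨⟨r * g, hrg, by rw [hrgd, h, neg_neg]⟩, g, hg, h⟩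

/-! ### Orders -/

theorem scalars_le_sim (A : Matrix ι ι K) :
    Cfsg.Geo.scalars ι K ≤ Cfsg.Geo.similarityGroup (bf A) := by
  intro g hg
  obtain ⟨c, hc⟩ := (Cfsg.Geo.mem_scalars_iff g).1 hg
  refine ⟨c * c, fun u v => ?_⟩
  simp only [hc, Matrix.smul_mulVec, Matrix.one_mulVec, bf, Matrix.mulVec_smul, smul_dotProduct,
    dotProduct_smul, smul_eq_mul, Units.val_mul, mul_assoc]

theorem card_scalars [Nonempty ι] : Nat.card (Cfsg.Geo.scalars ι K) = Nat.card Kˣ := by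
  refine (Nat.card_congr (MonoidHom.ofInjective ?_).toEquiv).symm
  intro a b h
  have := congrArg Units.val h
  exact Units.ext (Matrix.scalar_inj.1 this)

theorem card_eq_of_projQuot [Nonempty ι] [Nonempty κ] [Finite K] {H : Subgroup (GL ι K)}
    {L : Subgroup (GL κ K)} (hH : Cfsg.Geo.scalars ι K ≤ H) (hL : Cfsg.Geo.scalars κ K ≤ L)
    (e : Nonempty (projQuot H ≃* projQuot L)) : Nat.card H = Nat.card L := by
  obtain ⟨e⟩ := e
  rw [Subgroup.card_eq_card_quotient_mul_card_subgroup ((Cfsg.Geo.scalars ι K).subgroupOf H),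
    Subgroup.card_eq_card_quotient_mul_card_subgroup ((Cfsg.Geo.scalars κ K).subgroupOf L),
    Nat.card_congr e.toEquiv, Nat.card_congr (Subgroup.subgroupOfEquivOfLe hH).toEquiv,
    Nat.card_congr (Subgroup.subgroupOfEquivOfLe hL).toEquiv, card_scalars, card_scalars]

theorem card_quadSim_le [Finite K] (Q : (ι → K) → K) :
    Nat.card (Cfsg.Geo.quadSimilarityGroup (F := K) Q) ≤
      Nat.card Kˣ * Nat.card (Cfsg.isometryGroup K Q) := by
  classical
  let S := ↥(Cfsg.Geo.quadSimilarityGroup (F := K) Q)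
  choose μ hμ using fun g : S => g.2
  let R : Kˣ → S := Function.invFun μ
  have hR : ∀ g : S, μ (R (μ g)) = μ g := fun g => Function.invFun_eq ⟨g, rfl⟩
  have hmem : ∀ g : S, ((R (μ g) : GL ι K))⁻¹ * (g : GL ι K) ∈ Cfsg.isometryGroup K Q := by
    intro g v _
    show Q ((((R (μ g) : GL ι K))⁻¹ * (g : GL ι K) : GL ι K) *ᵥ v : ι → K) = Q v
    refine mul_left_cancel₀ (μ g).ne_zero ?_
    have h1 := hμ (R (μ g)) ((((R (μ g) : GL ι K))⁻¹ * (g : GL ι K) : GL ι K) *ᵥ v : ι → K)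
    rw [hR g, Matrix.mulVec_mulVec, ← Units.val_mul, mul_inv_cancel_left, hμ] at h1
    exact h1.symm
  refine le_of_le_of_eq (Nat.card_le_card_of_injective
    (fun g : S => (μ g, (⟨_, hmem g⟩ : ↥(Cfsg.isometryGroup K Q)))) fun g h e => ?_) (Nat.card_prod _ _)
  obtain ⟨e1, e2⟩ := Prod.mk.inj e
  have e3 := congrArg Subtype.val e2
  simp only [e1] at e3
  exact Subtype.ext (mul_left_cancel e3)

theorem card_isometry_lt [Finite K] (h2 : (2 : K) ≠ 0) (m : ℕ) (hm : 2 ≤ m) {α : K}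
    (hα : ¬ IsSquare α) :
    Nat.card (Cfsg.isometryGroup K (Cfsg.quadFormPlus m K)) < Nat.card (Symplectic.Sp m K) ∧
    Nat.card (Cfsg.isometryGroup K (Cfsg.quadFormMinus (m - 1) K 0 (-α))) < Nat.card (Symplectic.Sp m K) := by
  haveI := Fintype.ofFinite K
  obtain ⟨k, rfl⟩ : ∃ k, m = k + 1 := ⟨m - 1, by omega⟩
  have hab : UnitaryOrthogonal.BinAniso (0 : K) (-α) := binary_aniso hα
  rw [Nat.card_congr (UnitaryOrthogonal.plusEquiv (k + 1) K).toEquiv, UnitaryOrthogonal.card_orth_plus,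
    Nat.add_sub_cancel, Nat.card_congr (UnitaryOrthogonal.minusEquiv k K 0 (-α)).toEquiv,
    UnitaryOrthogonal.card_orth_minus hab, Symplectic.card_Sp rfl, Finset.prod_range_succ,
    Nat.card_eq_fintype_card (α := K)]
  set q := Fintype.card K
  set P := ∏ i ∈ Finset.range k, (q ^ (2 * (i + 1)) - 1)
  have hq : 3 ≤ q := by
    by_contra hlt
    have h1 : 1 < q := Fintype.one_lt_card
    have hq2 : Fintype.card K = 2 := by omega
    apply h2
    have := FiniteField.cast_card_eq_zero K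
    rw [hq2] at this
    exact_mod_cast this
  have hP : 0 < P := Finset.prod_pos fun i _ => by
    have : 3 ≤ q ^ (2 * (i + 1)) := hq.trans (Nat.le_self_pow (by omega) q)
    omega
  have ha : 0 < q ^ ((k + 1) * k) := pow_pos (by omega) _
  have hsq : q ^ ((k + 1) ^ 2) = q ^ ((k + 1) * k) * q ^ (k + 1) := by rw [← pow_add]; congr 1; ring
  have h2k : q ^ (2 * (k + 1)) = q ^ (k + 1) * q ^ (k + 1) := by rw [← pow_add, two_mul]
  have hx : 3 ≤ q ^ (k + 1) := hq.trans (Nat.le_self_pow (by omega) q)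
  set x := q ^ (k + 1)
  set a := q ^ ((k + 1) * k)
  have key : ∀ y, y ≤ x + 1 → 2 * a * y * P < q ^ ((k + 1) ^ 2) * (P * (q ^ (2 * (k + 1)) - 1)) := by
    intro y hy
    rw [hsq, h2k]
    have h3 : 2 * y < x * (x * x - 1) := by
      have h4 : 8 ≤ x * x - 1 := by
        have : 9 ≤ x * x := Nat.mul_le_mul hx hx
        omega
      have h5 : x * 8 ≤ x * (x * x - 1) := Nat.mul_le_mul_left _ h4
      omega
    calc 2 * a * y * P = (2 * y) * (a * P) := by ring
      _ < (x * (x * x - 1)) * (a * P) := Nat.mul_lt_mul_of_pos_right h3 (Nat.mul_pos ha hP)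
      _ = a * x * (P * (x * x - 1)) := by ring
  exact ⟨key _ (by omega), key _ le_rfl⟩

theorem card_Sp_le_GSp [Finite K] {m : ℕ} (hm : 1 ≤ m) :
    Nat.card (Cfsg.Geo.similarityGroup (bf (Matrix.J (Fin m) K))) =
      Nat.card Kˣ * Nat.card (Symplectic.Sp m K) := by
  classical
  let D : Kˣ → GL (Fin m ⊕ Fin m) K := fun c => Matrix.GeneralLinearGroup.mk'' (diagSim m (c : K))
    (by rw [diagSim_det]; exact isUnit_iff_ne_zero.2 (pow_ne_zero _ c.ne_zero))
  have hD : ∀ c : Kˣ, ∀ u v, bf (Matrix.J (Fin m) K) ((D c : Matrix _ _ K) *ᵥ u) ((D c : Matrix _ _ K) *ᵥ v) =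
      (c : K) * bf (Matrix.J (Fin m) K) u v := fun c u v => by
    rw [bf_conj, show (D c : Matrix (Fin m ⊕ Fin m) (Fin m ⊕ Fin m) K) = diagSim m (c : K) from rfl,
      diagSim_sim, bf_smul]
  rw [Nat.card_congr (isoGrpJ m).toEquiv, ← Nat.card_prod]
  refine (Nat.card_congr (Equiv.ofBijective
    (fun p : Kˣ × ↥(isoGrp (Matrix.J (Fin m) K)) =>
      (⟨D p.1 * p.2.1, p.1, fun u v => by
        rw [Units.val_mul, ← Matrix.mulVec_mulVec, ← Matrix.mulVec_mulVec, hD, isoGrp_iff_bf.1 p.2.2]⟩ :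
        ↥(Cfsg.Geo.similarityGroup (bf (Matrix.J (Fin m) K))))) ⟨?_, ?_⟩)).symm
  · rintro ⟨c, x⟩ ⟨d, y⟩ h
    have h' : D c * x.1 = D d * y.1 := congrArg Subtype.val h
    have hd := congrArg (fun g : GL (Fin m ⊕ Fin m) K =>
      (g : Matrix (Fin m ⊕ Fin m) (Fin m ⊕ Fin m) K)ᵀ * Matrix.J (Fin m) K *
        (g : Matrix (Fin m ⊕ Fin m) (Fin m ⊕ Fin m) K)) h'
    have e : ∀ (c : Kˣ) (x : ↥(isoGrp (Matrix.J (Fin m) K))),
        ((D c * x.1 : GL _ K) : Matrix (Fin m ⊕ Fin m) (Fin m ⊕ Fin m) K)ᵀ * Matrix.J (Fin m) K *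
          ((D c * x.1 : GL _ K) : Matrix (Fin m ⊕ Fin m) (Fin m ⊕ Fin m) K) =
            (c : K) • Matrix.J (Fin m) K := fun c x => by
      calc _ = (x.1 : Matrix (Fin m ⊕ Fin m) (Fin m ⊕ Fin m) K)ᵀ *
            ((diagSim m (c : K))ᵀ * Matrix.J (Fin m) K * diagSim m (c : K)) *
            (x.1 : Matrix (Fin m ⊕ Fin m) (Fin m ⊕ Fin m) K) := by
            simp only [Units.val_mul, Matrix.transpose_mul, Matrix.mul_assoc]; rfl
        _ = _ := by rw [diagSim_sim, Matrix.mul_smul, Matrix.smul_mul, mem_isoGrp.1 x.2]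
    simp only [e] at hd
    have hcd : c = d := Units.ext (by
      have h0 : ((c : K) - d) • Matrix.J (Fin m) K = 0 := by rw [sub_smul, hd, sub_self]
      refine sub_eq_zero.1 ((smul_eq_zero.1 h0).resolve_right fun hz => ?_)
      haveI : Nonempty (Fin m ⊕ Fin m) := ⟨Sum.inl ⟨0, hm⟩⟩
      have := det_J (K := K) m
      rw [hz, Matrix.det_zero] at this
      exact zero_ne_one this)
    subst hcd
    exact Prod.ext rfl (Subtype.ext (mul_left_cancel h'))
  · rintro ⟨g, c, hc⟩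
    refine ⟨(c, ⟨(D c)⁻¹ * g, isoGrp_iff_bf.2 fun u v => mul_left_cancel₀ c.ne_zero ?_⟩),
      Subtype.ext (mul_inv_cancel_left _ _)⟩
    rw [← hD, Matrix.mulVec_mulVec, Matrix.mulVec_mulVec, ← Units.val_mul, mul_inv_cancel_left, hc]

/-- An orthogonal type group is not isomorphic to `PGSp`. -/
theorem not_iso_pgsp [Finite K] (h2 : (2 : K) ≠ 0) {n m : ℕ} (hn : n = 2 * m) (hm : 2 ≤ m)
    {A : Matrix (Fin n) (Fin n) K} (hA : A.det ≠ 0) (hs : Aᵀ = A) :
    ¬ Nonempty (projQuot (Cfsg.Geo.similarityGroup (bf A)) ≃* Cfsg.PGSp m K) := by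
  rintro ⟨e⟩
  obtain ⟨α, hα⟩ := exists_nonsquare h2
  obtain ⟨hplus, hminus⟩ := card_isometry_lt h2 m hm hα
  haveI : Nonempty (Fin m ⊕ Fin m) := ⟨Sum.inl ⟨0, by omega⟩⟩
  haveI : Nonempty (Fin n) := ⟨⟨0, by omega⟩⟩
  have key : ∀ {ι : Type} [Fintype ι] [DecidableEq ι] [Nonempty ι] (S : Matrix ι ι K) (Q : (ι → K) → K),
      Cfsg.Geo.quadSimilarityGroup (F := K) Q = Cfsg.Geo.similarityGroup (bf S) → Sim (bf S) (bf A) →
      Nat.card (Symplectic.Sp m K) ≤ Nat.card (Cfsg.isometryGroup K Q) := by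
    intro ι _ _ _ S Q hQ hsim
    obtain ⟨e1⟩ := sim_projQuot hsim
    have hc := card_eq_of_projQuot (scalars_le_sim S) (scalars_le_sim (Matrix.J (Fin m) K))
      ⟨e1.trans e⟩
    rw [card_Sp_le_GSp (K := K) (by omega : 1 ≤ m)] at hc
    have hle := card_quadSim_le Q
    rw [hQ, hc] at hle
    exact Nat.le_of_mul_le_mul_left hle Nat.card_pos
  obtain ⟨k, rfl⟩ : ∃ k, m = k + 1 := ⟨m - 1, by omega⟩
  let e1 : Fin (k + 1) ⊕ Fin (k + 1) ≃ Fin n := Fintype.equivFinOfCardEq (by simp; omega)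
  let e2 : (Fin k ⊕ Fin k) ⊕ Fin 2 ≃ Fin n := Fintype.equivFinOfCardEq (by simp; omega)
  have heven : Even (Fintype.card (Fin n)) := by rw [Fintype.card_fin, hn]; exact even_two_mul _
  by_cases hsq : IsSquare ((-1) ^ (k + 1) * A.det)
  · refine absurd (key _ _ (quadSim_plus h2 (k + 1)) ((cong_reindex e1 _).sim.trans
      ((sim_even_iff h2 heven ?_ hA ?_ hs).2 ?_))) (not_le.2 hplus)
    · rw [Matrix.det_reindex_self, symPlus_det]; exact pow_ne_zero _ (neg_ne_zero.2 one_ne_zero)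
    · rw [Matrix.transpose_reindex, symPlus_transpose]
    · rwa [Matrix.det_reindex_self, symPlus_det]
  · have hα0 : α ≠ 0 := fun h => hα (h ▸ IsSquare.zero)
    refine absurd (key _ _ (quadSim_minus h2 k α) ((cong_reindex e2 _).sim.trans
      ((sim_even_iff h2 heven ?_ hA ?_ hs).2 ?_))) (not_le.2 (by simpa using hminus))
    · rw [Matrix.det_reindex_self, symMinus_det]
      refine mul_ne_zero (pow_ne_zero _ (neg_ne_zero.2 one_ne_zero)) (mul_ne_zero ?_ hα0)
      rw [show (4 : K) = 2 * 2 by norm_num]; exact mul_ne_zero h2 h2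
    · rw [Matrix.transpose_reindex, symMinus_transpose]
    · rw [Matrix.det_reindex_self, symMinus_det]
      obtain ⟨r, hr⟩ := isSquare_neg_or h2 hsq hα
      exact ⟨2 * r, by linear_combination 4 * hr⟩

end Cfsg.Agent.GraphAut
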