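import Cfsg.Agent.GraphAut.Classify
import Cfsg.Agent.Lib.UnitaryOrthogonal.CharTwoOdd
import Cfsg.Prelude.Def_ClassicalGeometry
import Mathlib.LinearAlgebra.SymplecticGroup

/-!
The standard models: polar matrices of the standard quadratic forms, and the projective similarity
groups in characteristic two (helper10).
-/

set_option autoImplicit false
set_option linter.unusedSectionVars false
set_option linter.style.haveILetI false

namespace Cfsg.Agent.GraphAut

open Matrix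
open Cfsg (projQuot)

universe u

variable {K : Type u} [Field K] {ι κ : Type} [Fintype ι] [DecidableEq ι] [Fintype κ] [DecidableEq κ]

/-! ### Polar matrices -/

/-- The polar matrix of the plus form. -/
def symPlus (m : ℕ) (K : Type u) [Field K] : Matrix (Fin m ⊕ Fin m) (Fin m ⊕ Fin m) K :=
  Matrix.fromBlocks 0 1 1 0

theorem symPlus_transpose (m : ℕ) : (symPlus m K)ᵀ = symPlus m K := by
  simp [symPlus, Matrix.fromBlocks_transpose]

theorem det_J (m : ℕ) : (Matrix.J (Fin m) K).det = 1 :=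
  SymplecticGroup.det_eq_one (SymplecticGroup.J_mem (Fin m) K)

theorem symPlus_det (m : ℕ) : (symPlus m K).det = (-1) ^ m := by
  have h : symPlus m K = Matrix.J (Fin m) K * Matrix.fromBlocks 1 0 0 (-1) := by
    simp [symPlus, Matrix.J, Matrix.fromBlocks_multiply]
  rw [h, Matrix.det_mul, det_J, one_mul, Matrix.det_fromBlocks_zero₂₁, Matrix.det_one, one_mul,
    Matrix.det_neg, Matrix.det_one, mul_one, Fintype.card_fin]

theorem bf_symPlus (m : ℕ) (u v : Fin m ⊕ Fin m → K) :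
    bf (symPlus m K) u v = ∑ i, (u (.inl i) * v (.inr i) + u (.inr i) * v (.inl i)) := by
  simp [bf, symPlus, dotProduct, Fintype.sum_sum_type, Matrix.fromBlocks_mulVec,
    Finset.sum_add_distrib]

/-- The polar matrix of the odd form. -/
def symOdd (m : ℕ) (K : Type u) [Field K] :
    Matrix (Unit ⊕ (Fin m ⊕ Fin m)) (Unit ⊕ (Fin m ⊕ Fin m)) K :=
  Matrix.fromBlocks (Matrix.diagonal fun _ => 2) 0 0 (symPlus m K)

theorem symOdd_transpose (m : ℕ) : (symOdd m K)ᵀ = symOdd m K := by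
  simp [symOdd, Matrix.fromBlocks_transpose, symPlus_transpose]

theorem symOdd_det (h2 : (2 : K) ≠ 0) (m : ℕ) : (symOdd m K).det ≠ 0 := by
  rw [symOdd, Matrix.det_fromBlocks_zero₂₁, symPlus_det]
  simp [h2]

theorem bf_symOdd (m : ℕ) (u v : Unit ⊕ (Fin m ⊕ Fin m) → K) :
    bf (symOdd m K) u v =
      2 * u (.inl ()) * v (.inl ()) + bf (symPlus m K) (u ∘ Sum.inr) (v ∘ Sum.inr) := by
  simp [bf, symOdd, dotProduct, Fintype.sum_sum_type, Matrix.fromBlocks_mulVec, Matrix.mulVec_diagonal]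
  ring

/-- The polar matrix of the minus form with binary part `z₁² - α z₂²`. -/
def symMinus (m : ℕ) (α : K) : Matrix ((Fin m ⊕ Fin m) ⊕ Fin 2) ((Fin m ⊕ Fin m) ⊕ Fin 2) K :=
  Matrix.fromBlocks (symPlus m K) 0 0 (Matrix.diagonal ![2, -2 * α])

theorem symMinus_transpose (m : ℕ) (α : K) : (symMinus m α)ᵀ = symMinus m α := by
  simp [symMinus, Matrix.fromBlocks_transpose, symPlus_transpose]

theorem symMinus_det (m : ℕ) (α : K) : (symMinus m α).det = (-1) ^ (m + 1) * (4 * α) := by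
  rw [symMinus, Matrix.det_fromBlocks_zero₂₁, symPlus_det, Matrix.det_diagonal, Fin.prod_univ_two]
  simp only [Matrix.cons_val_zero, Matrix.cons_val_one]
  ring

theorem bf_symMinus (m : ℕ) (α : K) (u v : (Fin m ⊕ Fin m) ⊕ Fin 2 → K) :
    bf (symMinus m α) u v = bf (symPlus m K) (u ∘ Sum.inl) (v ∘ Sum.inl) +
      (2 * u (.inr 0) * v (.inr 0) - 2 * α * u (.inr 1) * v (.inr 1)) := by
  simp [bf, symMinus, dotProduct, Fintype.sum_sum_type, Matrix.fromBlocks_mulVec, Matrix.mulVec_diagonal,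
    Fin.sum_univ_two]
  ring

/-! ### The projective similarity groups as `PGO` -/

theorem quadSim_eq {S : Matrix ι ι K} {Q : (ι → K) → K} (h2 : (2 : K) ≠ 0)
    (hp : ∀ u v, bf S u v = Q (u + v) - Q u - Q v) (hd : ∀ v, bf S v v = 2 * Q v) :
    Cfsg.Geo.quadSimilarityGroup (F := K) Q = Cfsg.Geo.similarityGroup (bf S) := by
  ext g
  refine exists_congr fun c => ⟨fun h u v => ?_, fun h v => mul_left_cancel₀ h2 ?_⟩
  · rw [hp, hp, ← Matrix.mulVec_add, h, h, h]; ring
  · rw [← hd, h, hd]; ring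

theorem quadSim_plus (h2 : (2 : K) ≠ 0) (m : ℕ) :
    Cfsg.Geo.quadSimilarityGroup (F := K) (Cfsg.quadFormPlus m K) =
      Cfsg.Geo.similarityGroup (bf (symPlus m K)) := by
  refine quadSim_eq h2 (fun u v => ?_) (fun v => ?_)
  · simp only [bf_symPlus, Cfsg.quadFormPlus, Pi.add_apply, ← Finset.sum_sub_distrib]
    exact Finset.sum_congr rfl fun i _ => by ring
  · simp only [bf_symPlus, Cfsg.quadFormPlus, Finset.mul_sum]
    exact Finset.sum_congr rfl fun i _ => by ring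

theorem quadSim_odd (h2 : (2 : K) ≠ 0) (m : ℕ) :
    Cfsg.Geo.quadSimilarityGroup (F := K) (Cfsg.quadFormOdd m K) =
      Cfsg.Geo.similarityGroup (bf (symOdd m K)) := by
  refine quadSim_eq h2 (fun u v => ?_) (fun v => ?_)
  · simp only [bf_symOdd, bf_symPlus, Cfsg.quadFormOdd, Pi.add_apply, Function.comp_apply, add_mul,
      mul_add, Finset.sum_add_distrib, mul_comm (v (Sum.inr (Sum.inl _)))]
    ring
  · simp only [bf_symOdd, bf_symPlus, Cfsg.quadFormOdd, Function.comp_apply, mul_add, Finset.mul_sum,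
      Finset.sum_add_distrib]
    rw [← Finset.sum_add_distrib]
    exact congrArg₂ _ (by ring) (Finset.sum_congr rfl fun i _ => by ring)

theorem quadSim_minus (h2 : (2 : K) ≠ 0) (m : ℕ) (α : K) :
    Cfsg.Geo.quadSimilarityGroup (F := K) (Cfsg.quadFormMinus m K 0 (-α)) =
      Cfsg.Geo.similarityGroup (bf (symMinus m α)) := by
  refine quadSim_eq h2 (fun u v => ?_) (fun v => ?_)
  · simp only [bf_symMinus, bf_symPlus, Cfsg.quadFormMinus, Pi.add_apply, Function.comp_apply, add_mul,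
      mul_add, Finset.sum_add_distrib, mul_comm (v (Sum.inl (Sum.inl _)))]
    ring
  · simp only [bf_symMinus, bf_symPlus, Cfsg.quadFormMinus, Function.comp_apply, mul_add, Finset.mul_sum,
      Finset.sum_add_distrib]
    rw [← Finset.sum_add_distrib]
    exact congrArg₂ _ (Finset.sum_congr rfl fun i _ => by ring) (by ring)

theorem binary_aniso {α : K} (hα : ¬ IsSquare α) (z₁ z₂ : K)
    (h : z₁ ^ 2 + 0 * z₁ * z₂ + -α * z₂ ^ 2 = 0) : z₁ = 0 ∧ z₂ = 0 := by
  by_cases hz : z₂ = 0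
  · subst hz; exact ⟨by simpa using h, rfl⟩
  · exact absurd ⟨z₁ / z₂, by field_simp; linear_combination -h⟩ hα

/-! ### Isometry groups -/

/-- The isometries of a matrix form. -/
def isoGrp (A : Matrix ι ι K) : Subgroup (GL ι K) where
  carrier := {g | (g : Matrix ι ι K)ᵀ * A * (g : Matrix ι ι K) = A}
  one_mem' := by simp
  mul_mem' {a b} ha hb := by
    show _ = A
    calc ((a * b : GL ι K) : Matrix ι ι K)ᵀ * A * ((a * b : GL ι K) : Matrix ι ι K)
        = (b : Matrix ι ι K)ᵀ * ((a : Matrix ι ι K)ᵀ * A * (a : Matrix ι ι K)) * (b : Matrix ι ι K) := by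
          simp [Matrix.mul_assoc]
      _ = A := by rw [ha, hb]
  inv_mem' {a} ha := by
    show _ = A
    have h1 : (a : Matrix ι ι K) * ((a⁻¹ : GL ι K) : Matrix ι ι K) = 1 := by
      rw [← Units.val_mul, mul_inv_cancel, Units.val_one]
    calc ((a⁻¹ : GL ι K) : Matrix ι ι K)ᵀ * A * ((a⁻¹ : GL ι K) : Matrix ι ι K)
        = ((a⁻¹ : GL ι K) : Matrix ι ι K)ᵀ * ((a : Matrix ι ι K)ᵀ * A * (a : Matrix ι ι K)) *
            ((a⁻¹ : GL ι K) : Matrix ι ι K) := by rw [ha]
      _ = ((a : Matrix ι ι K) * ((a⁻¹ : GL ι K) : Matrix ι ι K))ᵀ * A *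
            ((a : Matrix ι ι K) * ((a⁻¹ : GL ι K) : Matrix ι ι K)) := by
          simp only [Matrix.transpose_mul, Matrix.mul_assoc]
      _ = A := by rw [h1, Matrix.transpose_one, Matrix.one_mul, Matrix.mul_one]

theorem mem_isoGrp {A : Matrix ι ι K} {g : GL ι K} :
    g ∈ isoGrp A ↔ (g : Matrix ι ι K)ᵀ * A * (g : Matrix ι ι K) = A := Iff.rfl

theorem bf_conj (A : Matrix ι ι K) (M : Matrix ι ι K) (u v : ι → K) :
    bf A (M *ᵥ u) (M *ᵥ v) = bf (Mᵀ * A * M) u v := by
  rw [bf, bf, ← Matrix.mulVec_mulVec, ← Matrix.mulVec_mulVec, Matrix.dotProduct_mulVec u,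
    Matrix.vecMul_transpose]

theorem isoGrp_iff_bf {A : Matrix ι ι K} {g : GL ι K} :
    g ∈ isoGrp A ↔ ∀ u v, bf A ((g : Matrix ι ι K) *ᵥ u) ((g : Matrix ι ι K) *ᵥ v) = bf A u v := by
  refine ⟨fun h u v => by rw [bf_conj, mem_isoGrp.1 h], fun h => matrix_ext fun u v => ?_⟩
  rw [← bf_conj, h]

theorem glEquiv_mem_isoGrp {A : Matrix κ κ K} {B : Matrix ι ι K} (j : (κ → K) ≃ₗ[K] (ι → K))
    (hj : ∀ u v, bf B (j u) (j v) = bf A u v) (x : GL κ K) :
    glEquiv j x ∈ isoGrp B ↔ x ∈ isoGrp A := by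
  rw [isoGrp_iff_bf, isoGrp_iff_bf]
  constructor
  · intro h u v
    have := h (j u) (j v)
    rwa [glEquiv_mulVec, glEquiv_mulVec, j.symm_apply_apply, j.symm_apply_apply, hj, hj] at this
  · intro h u v
    rw [glEquiv_mulVec, glEquiv_mulVec, hj, h, ← hj, j.apply_symm_apply, j.apply_symm_apply]

/-- Congruent forms have isomorphic isometry groups, compatibly with the general linear groups. -/
noncomputable def isoGrpEquiv {A : Matrix κ κ K} {B : Matrix ι ι K} (j : (κ → K) ≃ₗ[K] (ι → K))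
    (hj : ∀ u v, bf B (j u) (j v) = bf A u v) : ↥(isoGrp A) ≃* ↥(isoGrp B) where
  toFun x := ⟨glEquiv j x.1, (glEquiv_mem_isoGrp j hj x.1).2 x.2⟩
  invFun y := ⟨(glEquiv j).symm y.1,
    (glEquiv_mem_isoGrp j hj _).1 (by rw [MulEquiv.apply_symm_apply]; exact y.2)⟩
  left_inv x := Subtype.ext ((glEquiv j).symm_apply_apply _)
  right_inv y := Subtype.ext ((glEquiv j).apply_symm_apply _)
  map_mul' x y := Subtype.ext (map_mul (glEquiv j) _ _)

theorem isoGrp_congr {A : Matrix κ κ K} {B : Matrix ι ι K} (h : Cong (bf A) (bf B)) :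
    Nonempty (↥(isoGrp A) ≃* ↥(isoGrp B)) := by
  obtain ⟨j, hj⟩ := h
  exact ⟨isoGrpEquiv j hj⟩

/-- The isometry group of the symplectic form. -/
noncomputable def isoGrpJ (m : ℕ) :
    ↥(Matrix.symplecticGroup (Fin m) K) ≃* ↥(isoGrp (Matrix.J (Fin m) K)) where
  toFun A := ⟨Matrix.GeneralLinearGroup.mk'' A.1 (SymplecticGroup.symplectic_det A.2),
    SymplecticGroup.mem_iff'.1 A.2⟩
  invFun g := ⟨(g.1 : Matrix (Fin m ⊕ Fin m) (Fin m ⊕ Fin m) K), SymplecticGroup.mem_iff'.2 g.2⟩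
  left_inv A := rfl
  right_inv g := Subtype.ext (Units.ext rfl)
  map_mul' A B := Subtype.ext (Units.ext rfl)

theorem isoGrpJ_coe (m : ℕ) (A : Matrix.symplecticGroup (Fin m) K) :
    ((isoGrpJ m A).1 : Matrix (Fin m ⊕ Fin m) (Fin m ⊕ Fin m) K) = A.1 := rfl

/-! ### Quotients by scalars in characteristic two -/

theorem projQuot_equiv_sub (H L : Subgroup (GL ι K)) (hle : L ≤ H)
    (hinter : ∀ g ∈ L, g ∈ Cfsg.Geo.scalars ι K → g = 1)
    (hgen : ∀ g ∈ H, ∃ l ∈ L, l⁻¹ * g ∈ Cfsg.Geo.scalars ι K) :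
    Nonempty (projQuot H ≃* ↥L) := by
  let φ : ↥L →* projQuot H := (QuotientGroup.mk' _).comp (Subgroup.inclusion hle)
  refine ⟨(MulEquiv.ofBijective φ ⟨?_, ?_⟩).symm⟩
  · rw [← MonoidHom.ker_eq_bot_iff, eq_bot_iff]
    intro x hx
    rw [MonoidHom.mem_ker] at hx
    exact Subtype.ext (hinter x.1 x.2
      (Subgroup.mem_subgroupOf.1 ((QuotientGroup.eq_one_iff (Subgroup.inclusion hle x)).1 hx)))
  · intro y
    obtain ⟨⟨g, hg⟩, rfl⟩ := QuotientGroup.mk_surjective y
    obtain ⟨l, hl, hs⟩ := hgen g hg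
    exact ⟨⟨l, hl⟩, QuotientGroup.eq.2 (Subgroup.mem_subgroupOf.2 hs)⟩

/-- A scalar matrix. -/
def scal (ι : Type) [Fintype ι] [DecidableEq ι] (c : Kˣ) : GL ι K :=
  Units.map (Matrix.scalar ι : K →+* Matrix ι ι K).toMonoidHom c

theorem scal_coe (c : Kˣ) : ((scal ι c : GL ι K) : Matrix ι ι K) = (c : K) • 1 := by
  simp [scal, Matrix.smul_one_eq_diagonal]

theorem scal_mem (c : Kˣ) : scal ι c ∈ Cfsg.Geo.scalars ι K := ⟨c, rfl⟩

theorem scal_mul_mulVec (c : Kˣ) (g : GL ι K) (v : ι → K) :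
    ((g * scal ι c : GL ι K) : Matrix ι ι K) *ᵥ v = (c : K) • ((g : Matrix ι ι K) *ᵥ v) := by
  rw [Units.val_mul, scal_coe, Matrix.mul_smul, Matrix.mul_one, Matrix.smul_mulVec]

section CharTwo

variable [CharP K 2] [Finite K]

theorem exists_sq (c : Kˣ) : ∃ d : Kˣ, (d : K) * d = c := by
  obtain ⟨r, hr⟩ := FiniteField.isSquare_of_char_two (ringChar.eq K 2) (c : K)
  have hr0 : r ≠ 0 := by rintro rfl; exact c.ne_zero (by simpa using hr)
  exact ⟨Units.mk0 r hr0, hr.symm⟩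

/-- In characteristic two the projective similarity group is the isometry group. -/
theorem projQuot_sim_two {A : Matrix ι ι K} (hA : A ≠ 0) :
    Nonempty (projQuot (Cfsg.Geo.similarityGroup (bf A)) ≃* ↥(isoGrp A)) := by
  refine projQuot_equiv_sub _ _ (fun g hg => ⟨1, fun u v => by
    rw [isoGrp_iff_bf.1 hg, Units.val_one, one_mul]⟩) (fun g hg hs => ?_) (fun g hg => ?_)
  · obtain ⟨c, hc⟩ := (Cfsg.Geo.mem_scalars_iff g).1 hs
    have h := mem_isoGrp.1 hg
    rw [hc, Matrix.transpose_smul, Matrix.transpose_one, Matrix.smul_mul, Matrix.one_mul,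
      Matrix.mul_smul, Matrix.mul_one, smul_smul] at h
    have h1 : (c : K) * c = 1 := by
      by_contra hne
      refine hA ?_
      have h' : ((c : K) * c - 1) • A = 0 := by rw [sub_smul, h, one_smul, sub_self]
      exact (smul_eq_zero.1 h').resolve_left (sub_ne_zero.2 hne)
    have h2 : (c : K) = 1 := CharTwo.sq_inj.1 (by rw [pow_two, pow_two, h1, mul_one])
    exact Units.ext (by rw [hc, h2, one_smul, Units.val_one])
  · obtain ⟨c, hc⟩ := hg
    obtain ⟨d, hd⟩ := exists_sq c⁻¹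
    refine ⟨g * scal ι d, isoGrp_iff_bf.2 fun u v => ?_, ?_⟩
    · have hcd : (d : K) * ((d : K) * c) = 1 := by rw [← mul_assoc, hd, c.inv_mul]
      have := hc u v
      rw [scal_mul_mulVec, scal_mul_mulVec]
      simp only [bf, Matrix.mulVec_smul, smul_dotProduct, dotProduct_smul, smul_eq_mul] at this ⊢
      linear_combination (d : K) * d * this + (u ⬝ᵥ A *ᵥ v) * hcd
    · rw [_root_.mul_inv_rev, inv_mul_cancel_right]
      exact inv_mem (scal_mem d)

theorem projQuot_quadSim_two (Q : QuadraticForm K (ι → K)) (hQ : ∃ v, Q v ≠ 0) (f : (ι → K) → K)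
    (hf : ∀ v, Q v = f v) :
    Nonempty (Cfsg.PGO K f ≃* ↥(Cfsg.isometryGroup K f)) := by
  obtain rfl : ⇑Q = f := funext hf
  refine projQuot_equiv_sub _ _ (fun g hg => ⟨1, fun v => by
    rw [Units.val_one, one_mul]; exact hg v v⟩) (fun g hg hs => ?_) (fun g hg => ?_)
  · obtain ⟨c, hc⟩ := (Cfsg.Geo.mem_scalars_iff g).1 hs
    obtain ⟨v, hv⟩ := hQ
    have h : Q ((g : Matrix ι ι K) *ᵥ v) = Q v := hg v v
    rw [hc, Matrix.smul_mulVec, Matrix.one_mulVec, QuadraticMap.map_smul, smul_eq_mul] at h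
    have h1 : (c : K) * c = 1 := mul_right_cancel₀ hv (by rw [h, one_mul])
    have h2 : (c : K) = 1 := CharTwo.sq_inj.1 (by rw [pow_two, pow_two, h1, mul_one])
    exact Units.ext (by rw [hc, h2, one_smul, Units.val_one])
  · obtain ⟨c, hc⟩ := hg
    obtain ⟨d, hd⟩ := exists_sq c⁻¹
    refine ⟨g * scal ι d, fun v _ => ?_, ?_⟩
    · show Q (((g * scal ι d : GL ι K) : Matrix ι ι K) *ᵥ v) = Q v
      rw [scal_mul_mulVec, QuadraticMap.map_smul, smul_eq_mul, hc, hd, Units.inv_mul_cancel_left]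
    · rw [_root_.mul_inv_rev, inv_mul_cancel_right]
      exact inv_mem (scal_mem d)

theorem J_ne_zero {m : ℕ} (hm : 1 ≤ m) : Matrix.J (Fin m) K ≠ 0 := fun h => by
  haveI : Nonempty (Fin m ⊕ Fin m) := ⟨Sum.inl ⟨0, hm⟩⟩
  have := det_J (K := K) m
  rw [h, Matrix.det_zero] at this
  exact zero_ne_one this

theorem pgsp_two {m : ℕ} (hm : 1 ≤ m) :
    Nonempty (Cfsg.PGSp m K ≃* ↥(Matrix.symplecticGroup (Fin m) K)) := by
  obtain ⟨e⟩ := projQuot_sim_two (J_ne_zero (K := K) hm)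
  exact ⟨(QuotientGroup.congr _ _ (MulEquiv.refl _) (Subgroup.map_id _)).trans (e.trans (isoGrpJ m).symm)⟩

/-- The odd-dimensional model. -/
def oddModel (m : ℕ) (K : Type u) [Field K] :
    Matrix (Unit ⊕ (Fin m ⊕ Fin m)) (Unit ⊕ (Fin m ⊕ Fin m)) K :=
  Matrix.fromBlocks 1 0 0 (Matrix.J (Fin m) K)

theorem oddModel_transpose (m : ℕ) : (oddModel m K)ᵀ = oddModel m K := by
  have hn : -Matrix.J (Fin m) K = Matrix.J (Fin m) K :=
    Matrix.ext fun i j => by rw [Matrix.neg_apply, CharTwo.neg_eq]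
  simp [oddModel, Matrix.fromBlocks_transpose, Matrix.J_transpose, hn]

theorem oddModel_det (m : ℕ) : (oddModel m K).det = 1 := by
  rw [oddModel, Matrix.det_fromBlocks_zero₂₁, det_J, Matrix.det_one, one_mul]

theorem bf_oddModel_self (m : ℕ) (v : Unit ⊕ (Fin m ⊕ Fin m) → K) :
    bf (oddModel m K) v v = v (.inl ()) ^ 2 := by
  simp [bf, oddModel, dotProduct, Fintype.sum_sum_type, Matrix.J, Matrix.fromBlocks_mulVec,
    Matrix.neg_mulVec, CharTwo.neg_eq]
  simp only [mul_comm (v (Sum.inr (Sum.inr _))), add_assoc, CharTwo.add_self_eq_zero, add_zero]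
  ring

theorem isoGrp_oddModel (m : ℕ) :
    Nonempty (↥(isoGrp (oddModel m K)) ≃* ↥(Matrix.symplecticGroup (Fin m) K)) := by
  let Φ : ↥(Matrix.symplecticGroup (Fin m) K) →* ↥(isoGrp (oddModel m K)) :=
    { toFun := fun D => ⟨Matrix.GeneralLinearGroup.mk'' (Matrix.fromBlocks 1 0 0 D.1) (by
          rw [Matrix.det_fromBlocks_zero₂₁, Matrix.det_one, one_mul]
          exact SymplecticGroup.symplectic_det D.2), by
          show (Matrix.fromBlocks 1 0 0 D.1)ᵀ * _ * Matrix.fromBlocks 1 0 0 D.1 = _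
          simp [oddModel, Matrix.fromBlocks_transpose, Matrix.fromBlocks_multiply,
            SymplecticGroup.mem_iff'.1 D.2]⟩
      map_one' := Subtype.ext (Units.ext Matrix.fromBlocks_one)
      map_mul' := fun D E => Subtype.ext (Units.ext (by
        show Matrix.fromBlocks 1 0 0 (D.1 * E.1) =
          Matrix.fromBlocks 1 0 0 D.1 * Matrix.fromBlocks 1 0 0 E.1
        simp [Matrix.fromBlocks_multiply])) }
  refine ⟨(MulEquiv.ofBijective Φ ⟨fun D E h => ?_, fun g => ?_⟩).symm⟩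
  · have := congrArg (fun g : ↥(isoGrp (oddModel m K)) =>
      (g.1 : Matrix (Unit ⊕ (Fin m ⊕ Fin m)) (Unit ⊕ (Fin m ⊕ Fin m)) K).toBlocks₂₂) h
    simpa [Φ] using this
  set M := (g.1 : Matrix (Unit ⊕ (Fin m ⊕ Fin m)) (Unit ⊕ (Fin m ⊕ Fin m)) K) with hM
  have hrow : ∀ v : Unit ⊕ (Fin m ⊕ Fin m) → K, (M *ᵥ v) (.inl ()) = v (.inl ()) := fun v => by
    have := isoGrp_iff_bf.1 g.2 v v
    rw [bf_oddModel_self, bf_oddModel_self] at this
    exact CharTwo.sq_inj.1 this
  have h11 : M.toBlocks₁₁ = 1 := by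
    ext a b
    simpa [Matrix.toBlocks₁₁] using hrow (Pi.single (.inl b) 1)
  have h12 : M.toBlocks₁₂ = 0 := by
    ext a b
    simpa [Matrix.toBlocks₁₂] using hrow (Pi.single (.inr b) 1)
  have hMb : M = Matrix.fromBlocks 1 0 M.toBlocks₂₁ M.toBlocks₂₂ := by
    rw [← h11, ← h12, Matrix.fromBlocks_toBlocks]
  have he := mem_isoGrp.1 g.2
  rw [← hM, hMb, oddModel, Matrix.fromBlocks_transpose, Matrix.fromBlocks_multiply,
    Matrix.fromBlocks_multiply, Matrix.fromBlocks_inj] at he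
  obtain ⟨-, -, h21, h22⟩ := he
  simp only [Matrix.transpose_zero, Matrix.zero_mul, Matrix.mul_zero, add_zero, zero_add] at h21 h22
  have hD : M.toBlocks₂₂ ∈ Matrix.symplecticGroup (Fin m) K := SymplecticGroup.mem_iff'.2 h22
  have hC : M.toBlocks₂₁ = 0 := by
    have hu : IsUnit (M.toBlocks₂₂ᵀ * Matrix.J (Fin m) K) := by
      rw [Matrix.isUnit_iff_isUnit_det, Matrix.det_mul, Matrix.det_transpose, det_J, mul_one]
      exact SymplecticGroup.symplectic_det hD
    obtain ⟨U, hU⟩ := hu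
    have h3 := congrArg (fun X => ((U⁻¹ : (Matrix (Fin m ⊕ Fin m) (Fin m ⊕ Fin m) K)ˣ) :
      Matrix (Fin m ⊕ Fin m) (Fin m ⊕ Fin m) K) * X) h21
    rwa [← hU, ← Matrix.mul_assoc, Units.inv_mul, Matrix.one_mul, Matrix.mul_zero] at h3
  refine ⟨⟨_, hD⟩, Subtype.ext (Units.ext ?_)⟩
  show Matrix.fromBlocks 1 0 0 M.toBlocks₂₂ = M
  conv_rhs => rw [hMb, hC]

/-- Odd dimension, characteristic two. -/
theorem projQuot_odd_two {n m : ℕ} (hn : n = 2 * m + 1) {A : Matrix (Fin n) (Fin n) K}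
    (hA : A.det ≠ 0) (hs : Aᵀ = A) :
    Nonempty (projQuot (Cfsg.Geo.similarityGroup (bf A)) ≃* Cfsg.PGO K (Cfsg.quadFormOdd m K)) := by
  have hcard : Fintype.card (Unit ⊕ (Fin m ⊕ Fin m)) = n := by simp; omega
  let e : Unit ⊕ (Fin m ⊕ Fin m) ≃ Fin n := Fintype.equivFinOfCardEq hcard
  have hd : (Matrix.reindex e e (oddModel m K)).det ≠ 0 := by
    rw [Matrix.det_reindex_self, oddModel_det]; exact one_ne_zero
  have hodd : Odd (Fintype.card (Fin n)) := by rw [Fintype.card_fin]; exact ⟨m, hn⟩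
  have hc : Cong (bf (oddModel m K)) (bf A) := (cong_reindex e _).trans
    (cong_of_not_alt hd hA (by rw [Matrix.transpose_reindex, oddModel_transpose]) hs
      (not_alt_of_odd hd hodd) (not_alt_of_odd hA hodd))
  obtain ⟨e1⟩ := sim_projQuot hc.sim
  obtain ⟨e2⟩ := projQuot_sim_two (A := oddModel m K) (fun h => by
    have := oddModel_det (K := K) m
    rw [h, Matrix.det_zero] at this
    exact zero_ne_one this)
  obtain ⟨e3⟩ := isoGrp_oddModel (K := K) m
  obtain ⟨e4⟩ := UnitaryOrthogonal.orth_odd_equiv_symplectic (F := K) (m := m)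
  obtain ⟨e5⟩ := projQuot_quadSim_two (UnitaryOrthogonal.qOdd m K)
    ⟨Pi.single (.inl ()) 1, by simp [UnitaryOrthogonal.qOdd_apply, Cfsg.quadFormOdd]⟩ _
    (UnitaryOrthogonal.qOdd_apply m)
  exact ⟨e1.symm.trans (e2.trans (e3.trans (e4.symm.trans e5.symm)))⟩

/-- The all-one matrix. -/
def onesMat (ι : Type) (K : Type u) [Field K] : Matrix ι ι K := Matrix.of fun _ _ => 1

theorem onesMat_mulVec (v : ι → K) : onesMat ι K *ᵥ v = fun _ => ∑ i, v i := by
  funext i; simp [onesMat, Matrix.mulVec, dotProduct]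

theorem onesMat_sq (h : (Fintype.card ι : K) = 0) : onesMat ι K * onesMat ι K = 0 := by
  ext i j; simp [onesMat, Matrix.mul_apply, h]

/-- Even dimension, characteristic two: the isometries of the identity form are the centraliser of a
transvection in a symplectic group. -/
theorem isoGrp_one_even {n m : ℕ} (hm : 1 ≤ m) (hn : n = 2 * m) :
    ∃ t : ↥(Matrix.symplecticGroup (Fin m) K),
      Cfsg.IsTransvection (t : Matrix (Fin m ⊕ Fin m) (Fin m ⊕ Fin m) K) ∧
      Nonempty (↥(isoGrp (1 : Matrix (Fin n) (Fin n) K)) ≃*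
        ↥(Subgroup.centralizer ({t} : Set ↥(Matrix.symplecticGroup (Fin m) K)))) := by
  classical
  set O := onesMat (Fin n) K with hO
  have hn0 : (Fintype.card (Fin n) : K) = 0 := by
    rw [Fintype.card_fin, hn, Nat.cast_mul, Nat.cast_ofNat, CharTwo.two_eq_zero, zero_mul]
  have hOO : O * O = 0 := onesMat_sq hn0
  have hOT : Oᵀ = O := rfl
  set M : Matrix (Fin n) (Fin n) K := 1 + O with hMdef
  have hMM : M * M = 1 := by
    have : M * M = 1 + (O + O) + O * O := by rw [hMdef]; noncomm_ring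
    rw [this, hOO, add_zero]
    ext i j
    simp [Matrix.add_apply, CharTwo.add_self_eq_zero]
  let Mg : GL (Fin n) K := ⟨M, M, hMM, hMM⟩
  have hMT : Mᵀ = M := by rw [hMdef, Matrix.transpose_add, Matrix.transpose_one, hOT]
  have hsum : ∀ v : Fin n → K, (∑ i, v i) ^ 2 = ∑ i, v i ^ 2 := fun v =>
    CharTwo.sum_sq _ _
  have halt : ∀ v, bf M v v = 0 := fun v => by
    have h1 : bf M v v = ∑ i, v i ^ 2 + (∑ i, v i) ^ 2 := by
      rw [bf, hMdef, Matrix.add_mulVec, Matrix.one_mulVec, hO, onesMat_mulVec, dotProduct_add]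
      simp [dotProduct, pow_two, Finset.sum_mul]
    rw [h1, hsum, CharTwo.add_self_eq_zero]
  have hMdet : M.det ≠ 0 := fun h => by
    have := congrArg Matrix.det hMM
    rw [Matrix.det_mul, h, zero_mul, Matrix.det_one] at this
    exact zero_ne_one this
  obtain ⟨k, hk, j, hj⟩ := cong_alt hMdet halt
  obtain rfl : k = m := by rw [Fintype.card_fin, hn] at hk; omega
  obtain ⟨E, hEv⟩ : ∃ E : ↥(Matrix.symplecticGroup (Fin k) K) ≃* ↥(isoGrp M),
      ∀ (x : ↥(Matrix.symplecticGroup (Fin k) K)) (u : Fin n → K),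
        ((E x).1 : Matrix (Fin n) (Fin n) K) *ᵥ u =
          j ((x : Matrix (Fin k ⊕ Fin k) (Fin k ⊕ Fin k) K) *ᵥ j.symm u) :=
    ⟨(isoGrpJ k).trans (isoGrpEquiv j hj), fun x u => glEquiv_mulVec j _ u⟩
  have hMg : Mg ∈ isoGrp M := by
    show Mᵀ * M * M = M
    rw [hMT, hMM, Matrix.one_mul]
  obtain ⟨t, ht⟩ := E.surjective ⟨Mg, hMg⟩
  -- isometries of `1` fix the all-one vector
  have hkey : ∀ g : GL (Fin n) K, g ∈ isoGrp (1 : Matrix (Fin n) (Fin n) K) →
      (g : Matrix (Fin n) (Fin n) K) * O = O * (g : Matrix (Fin n) (Fin n) K) := by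
    intro g hg
    set G := (g : Matrix (Fin n) (Fin n) K) with hG
    have hg1 : Gᵀ * G = 1 := by have := mem_isoGrp.1 hg; rwa [Matrix.mul_one] at this
    have hg2 : G * Gᵀ = 1 := mul_eq_one_comm.1 hg1
    have hcol : ∀ A : Matrix (Fin n) (Fin n) K, Aᵀ * A = 1 → ∀ c, ∑ i, A i c = 1 := fun A hA c => by
      have h1 := congrFun (congrFun hA c) c
      rw [Matrix.mul_apply, Matrix.one_apply_eq] at h1
      refine CharTwo.sq_inj.1 ?_
      rw [hsum, one_pow, ← h1]
      exact Finset.sum_congr rfl fun i _ => by rw [Matrix.transpose_apply, pow_two]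
    ext a c
    have e1 := hcol G hg1 c
    have e2 := hcol Gᵀ (by rw [Matrix.transpose_transpose]; exact hg2) a
    simp only [Matrix.transpose_apply] at e2
    simp [O, onesMat, Matrix.mul_apply, e1, e2]
  have hmem : ∀ g : GL (Fin n) K, g ∈ isoGrp (1 : Matrix (Fin n) (Fin n) K) ↔
      g ∈ isoGrp M ∧ g * Mg = Mg * g := by
    intro g
    set G := (g : Matrix (Fin n) (Fin n) K) with hG
    constructor
    · intro hg
      have h1 := hkey g hg
      have hc : G * M = M * G := by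
        rw [hMdef, Matrix.mul_add, Matrix.add_mul, Matrix.mul_one, Matrix.one_mul, h1]
      have hg1 : Gᵀ * G = 1 := by have := mem_isoGrp.1 hg; rwa [Matrix.mul_one] at this
      refine ⟨mem_isoGrp.2 ?_, Units.ext hc⟩
      rw [Matrix.mul_assoc, ← hc, ← Matrix.mul_assoc, hg1, Matrix.one_mul]
    · rintro ⟨h1, h2⟩
      have hc : G * M = M * G := congrArg Units.val h2
      have h3 := mem_isoGrp.1 h1
      rw [Matrix.mul_assoc, ← hc, ← Matrix.mul_assoc] at h3
      refine mem_isoGrp.2 ?_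
      rw [Matrix.mul_one]
      have h4 := congrArg (· * M) h3
      simp only [Matrix.mul_assoc, hMM, Matrix.mul_one] at h4
      exact h4
  refine ⟨t, ⟨?_, ?_⟩, ⟨?_⟩⟩
  · -- the rank
    have hT : ∀ w, ((t : Matrix (Fin k ⊕ Fin k) (Fin k ⊕ Fin k) K) - 1) *ᵥ w =
        (∑ i, j w i) • j.symm (fun _ => 1) := fun w => by
      have h := hEv t (j w)
      rw [ht, j.symm_apply_apply] at h
      rw [Matrix.sub_mulVec, Matrix.one_mulVec]
      apply j.injective
      rw [map_sub, ← h, map_smul, j.apply_symm_apply]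
      show M *ᵥ j w - j w = _
      rw [hMdef, Matrix.add_mulVec, Matrix.one_mulVec, add_sub_cancel_left, hO, onesMat_mulVec]
      funext i; simp
    have hne : j.symm (fun _ => (1 : K)) ≠ 0 := fun h => by
      have := congrArg j h
      rw [j.apply_symm_apply, map_zero] at this
      exact one_ne_zero (congrFun this ⟨0, by omega⟩)
    have hrange : LinearMap.range ((t : Matrix (Fin k ⊕ Fin k) (Fin k ⊕ Fin k) K) - 1).mulVecLin =
        Submodule.span K {j.symm (fun _ => (1 : K))} := by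
      refine le_antisymm ?_ ((Submodule.span_singleton_le_iff_mem _ _).2 ?_)
      · rintro _ ⟨w, rfl⟩
        rw [Matrix.mulVecLin_apply, hT]
        exact Submodule.smul_mem _ _ (Submodule.mem_span_singleton_self _)
      · refine ⟨j.symm (Pi.single ⟨0, by omega⟩ 1), ?_⟩
        rw [Matrix.mulVecLin_apply, hT, j.apply_symm_apply]
        simp
    rw [Matrix.rank, hrange, finrank_span_singleton hne]
  · -- squares to zero
    refine Matrix.ext_of_mulVec_single fun i => j.injective ?_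
    have hT : ∀ w, j (((t : Matrix (Fin k ⊕ Fin k) (Fin k ⊕ Fin k) K) - 1) *ᵥ w) = O *ᵥ j w := fun w => by
      have h := hEv t (j w)
      rw [ht, j.symm_apply_apply] at h
      rw [Matrix.sub_mulVec, Matrix.one_mulVec, map_sub, ← h]
      show M *ᵥ j w - j w = _
      rw [hMdef, Matrix.add_mulVec, Matrix.one_mulVec, add_sub_cancel_left]
    rw [← Matrix.mulVec_mulVec, hT, hT, Matrix.mulVec_mulVec, hOO, Matrix.zero_mulVec, Matrix.zero_mulVec,
      map_zero]
  have hto : ∀ g : ↥(isoGrp (1 : Matrix (Fin n) (Fin n) K)),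
      E.symm ⟨g.1, ((hmem g.1).1 g.2).1⟩ ∈
        Subgroup.centralizer ({t} : Set ↥(Matrix.symplecticGroup (Fin k) K)) := fun g => by
    rw [Subgroup.mem_centralizer_singleton_iff]
    apply E.injective
    rw [map_mul, map_mul, E.apply_symm_apply, ht]
    exact Subtype.ext ((hmem g.1).1 g.2).2
  have hinv : ∀ z : ↥(Subgroup.centralizer ({t} : Set ↥(Matrix.symplecticGroup (Fin k) K))),
      (E z.1).1 ∈ isoGrp (1 : Matrix (Fin n) (Fin n) K) := fun z => by
    refine (hmem _).2 ⟨(E z.1).2, ?_⟩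
    have h := congrArg E (Subgroup.mem_centralizer_singleton_iff.1 z.2)
    rw [map_mul, map_mul, ht] at h
    exact congrArg Subtype.val h
  let φ : ↥(isoGrp (1 : Matrix (Fin n) (Fin n) K)) →*
      ↥(Subgroup.centralizer ({t} : Set ↥(Matrix.symplecticGroup (Fin k) K))) :=
    MonoidHom.mk' (fun g => ⟨E.symm ⟨g.1, ((hmem g.1).1 g.2).1⟩, hto g⟩) fun g h =>
      Subtype.ext (map_mul E.symm ⟨g.1, ((hmem g.1).1 g.2).1⟩ ⟨h.1, ((hmem h.1).1 h.2).1⟩)
  refine MulEquiv.ofBijective φ ⟨fun g h e => Subtype.ext ?_, fun z => ⟨⟨(E z.1).1, hinv z⟩, Subtype.ext ?_⟩⟩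
  · have h2 := E.symm.injective (congrArg Subtype.val e)
    exact Subtype.mk.inj h2
  · exact E.symm_apply_apply z.1

end CharTwo

end Cfsg.Agent.GraphAut
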