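import Cfsg.Agent.GraphAut.Data
import Cfsg.Agent.AutPSL.GraphFieldClass

/-!
Involutory graph automorphisms of `PSL_n(q)` and forms (helper10).
-/

set_option autoImplicit false
set_option linter.unusedSectionVars false
set_option linter.style.haveILetI false

namespace Cfsg.Agent.GraphAut.PSL

open Matrix
open Cfsg (projQuot)
open Cfsg.Agent.AutPSL (pgl itAut itGL scalarGL)

universe u

variable {n : ℕ} {F : Type u} [Field F] [Fintype F]

theorem sign_of_transpose {ι : Type} [Fintype ι] [Nonempty ι] [DecidableEq ι] {K : Type u} [Field K]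
    {A : Matrix ι ι K} (hA : A.det ≠ 0) {c : K} (h : Aᵀ = c • A) : Aᵀ = A ∨ Aᵀ = -A := by
  have h1 := congrArg Matrix.transpose h
  rw [Matrix.transpose_transpose, Matrix.transpose_smul, h, smul_smul] at h1
  have hc : c * c = 1 := by
    by_contra hne
    have h' : (c * c - 1) • A = 0 := by rw [sub_smul, ← h1, one_smul, sub_self]
    rcases smul_eq_zero.1 h' with h' | h'
    · exact hne (sub_eq_zero.1 h')
    · exact hA (by rw [h']; exact Matrix.det_zero)
  rcases mul_self_eq_one_iff.1 hc with rfl | rfl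
  · exact Or.inl (by rw [h, one_smul])
  · exact Or.inr (by rw [h, neg_one_smul])

theorem it_mul_pgl (h : GL (Fin n) F) : itAut n F * pgl n F h = pgl n F (itGL h) * itAut n F := by
  rw [← AutPSL.pgl_it, mul_assoc, AutPSL.itAut_mul_self, mul_one]

/-- The form of a graph automorphism. -/
def R (γ : MulAut (Matrix.ProjectiveSpecialLinearGroup (Fin n) F)) (A : Matrix (Fin n) (Fin n) F) : Prop :=
  ∃ g : GL (Fin n) F, ((g⁻¹ : GL (Fin n) F) : Matrix (Fin n) (Fin n) F) = A ∧ γ = pgl n F g * itAut n F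

theorem sq_coe (g : GL (Fin n) F) (c : Fˣ) :
    g * itGL g = scalarGL (Fin n) c ↔
      ((g⁻¹ : GL (Fin n) F) : Matrix (Fin n) (Fin n) F)ᵀ =
        (c : F) • ((g⁻¹ : GL (Fin n) F) : Matrix (Fin n) (Fin n) F) := by
  rw [← eq_inv_mul_iff_mul_eq, ← Units.val_inj (a := itGL g), AutPSL.itGL_coe, Units.val_mul,
    AutPSL.scalarGL_coe, Matrix.mul_smul, Matrix.mul_one]

theorem conj_eq (h g : GL (Fin n) F) :
    pgl n F h * (pgl n F g * itAut n F) * (pgl n F h)⁻¹ = pgl n F (h * g * itGL h⁻¹) * itAut n F := by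
  rw [← map_inv, mul_assoc, mul_assoc (pgl n F g), it_mul_pgl, map_mul, map_mul]
  simp only [mul_assoc]

theorem fix_iff (hn : 2 ≤ n) (h g g' : GL (Fin n) F) :
    pgl n F (h * g * itGL h⁻¹) = pgl n F g' ↔
      ∃ c : Fˣ, ((h⁻¹ : GL (Fin n) F) : Matrix (Fin n) (Fin n) F)ᵀ *
        ((g⁻¹ : GL (Fin n) F) : Matrix (Fin n) (Fin n) F) * ((h⁻¹ : GL (Fin n) F) : Matrix (Fin n) (Fin n) F) =
          (c : F) • ((g'⁻¹ : GL (Fin n) F) : Matrix (Fin n) (Fin n) F) := by
  rw [AutPSL.pgl_eq_iff hn]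
  have key : ∀ c : Fˣ, h * g * itGL h⁻¹ = g' * scalarGL (Fin n) c ↔
      itGL h * g⁻¹ * h⁻¹ = scalarGL (Fin n) c⁻¹ * g'⁻¹ := fun c => by
    rw [← inv_inj (a := h * g * itGL h⁻¹)]
    simp only [_root_.mul_inv_rev, map_inv, inv_inv, mul_assoc]
  constructor
  · rintro ⟨c, hc⟩
    refine ⟨c⁻¹, ?_⟩
    have := congrArg Units.val ((key c).1 hc)
    simpa only [Units.val_mul, AutPSL.itGL_coe, AutPSL.scalarGL_coe, Matrix.smul_mul, Matrix.one_mul]
      using this
  · rintro ⟨c, hc⟩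
    refine ⟨c⁻¹, (key _).2 (Units.ext ?_)⟩
    simpa only [inv_inv, Units.val_mul, AutPSL.itGL_coe, AutPSL.scalarGL_coe, Matrix.smul_mul,
      Matrix.one_mul] using hc

theorem sim_of_matrix {K : Type u} [Field K] {ι : Type} [Fintype ι] [DecidableEq ι] {A B : Matrix ι ι K}
    (P : GL ι K) (c : Kˣ) (h : (P : Matrix ι ι K)ᵀ * B * (P : Matrix ι ι K) = (c : K) • A) :
    Sim (bf A) (bf B) :=
  (sim_of_smul c A).trans (cong_of_matrix P h).sim

theorem mem_centralizer (hn : 2 ≤ n) {γ : MulAut (Matrix.ProjectiveSpecialLinearGroup (Fin n) F)}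
    {A : Matrix (Fin n) (Fin n) F} (hR : R γ A) (h : GL (Fin n) F) :
    pgl n F h ∈ Subgroup.centralizer ({γ} : Set _) ↔ h ∈ Cfsg.Geo.similarityGroup (bf A) := by
  obtain ⟨g, hg, rfl⟩ := hR
  rw [AutPSL.mem_centralizer_single, eq_comm, ← mul_inv_eq_iff_eq_mul, conj_eq, mul_left_inj,
    fix_iff hn, hg, ← mem_similarity_bf, inv_mem_iff]

/-- The forms of the involutory graph automorphisms. -/
theorem exists_data (hn : 3 ≤ n) :
    ∃ D : GraphData (Cfsg.inndiagPSL n F)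
      (fun γ : MulAut (Matrix.ProjectiveSpecialLinearGroup (Fin n) F) =>
        Cfsg.IsGraphAutClassPSL γ ∧ orderOf γ = 2) F n, D.R = R := by
  haveI : Nonempty (Fin n) := ⟨⟨0, by omega⟩⟩
  haveI : Fact (Nat.Prime 2) := ⟨Nat.prime_two⟩
  refine ⟨{ R := R, exist := ?_, total := ?_, conj := ?_, cent := ?_ }, rfl⟩
  · intro A hA hs
    set A' := Matrix.GeneralLinearGroup.mk'' A (isUnit_iff_ne_zero.2 hA) with hA'
    refine ⟨pgl n F A'⁻¹ * itAut n F, ⟨A'⁻¹, by rw [inv_inv]; rfl, rfl⟩, ⟨hn, pgl n F A'⁻¹, itAut n F,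
      (AutPSL.isInnerDiagonal_iff _).2 ⟨_, AutPSL.isSemi_pgl _⟩,
      (AutPSL.isInverseTranspose_iff _).2 rfl, rfl⟩, orderOf_eq_prime ?_ ?_⟩
    · obtain ⟨c, hc⟩ : ∃ c : Fˣ, ((A'⁻¹⁻¹ : GL (Fin n) F) : Matrix (Fin n) (Fin n) F)ᵀ =
          (c : F) • ((A'⁻¹⁻¹ : GL (Fin n) F) : Matrix (Fin n) (Fin n) F) := by
        rw [inv_inv]
        rcases hs with hs | hs
        · exact ⟨1, by rw [Units.val_one, one_smul]; exact hs⟩
        · exact ⟨-1, by rw [Units.val_neg, Units.val_one, neg_one_smul]; exact hs⟩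
      rw [pow_two, mul_assoc, ← mul_assoc (itAut n F), it_mul_pgl, mul_assoc, AutPSL.itAut_mul_self, mul_one,
        ← map_mul, (sq_coe _ c).2 hc]
      exact AutPSL.pgl_scalar c
    · intro h1
      have h2 : pgl n F A'⁻¹ = itAut n F := by
        rw [eq_inv_of_mul_eq_one_left h1, inv_eq_of_mul_eq_one_right AutPSL.itAut_mul_self]
      exact AutPSL.itAut_not_semi hn A'⁻¹ 1 (h2 ▸ AutPSL.isSemi_pgl A'⁻¹)
  · rintro γ ⟨⟨-, δ, ι, hδ, hι, rfl⟩, ho⟩
    obtain ⟨g, hg⟩ := (AutPSL.isInnerDiagonal_iff δ).1 hδ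
    obtain rfl := AutPSL.eq_pgl hg
    obtain rfl := (AutPSL.isInverseTranspose_iff ι).1 hι
    refine ⟨_, ⟨g, rfl, rfl⟩, Matrix.GeneralLinearGroup.det_ne_zero _, ?_⟩
    have h2 : (pgl n F g * itAut n F) ^ 2 = 1 := by rw [← ho, pow_orderOf_eq_one]
    rw [pow_two, mul_assoc, ← mul_assoc (itAut n F), it_mul_pgl, mul_assoc, AutPSL.itAut_mul_self, mul_one,
      ← map_mul, AutPSL.pgl_eq_one_iff (by omega)] at h2
    obtain ⟨c, hc⟩ := h2
    exact sign_of_transpose (Matrix.GeneralLinearGroup.det_ne_zero _) ((sq_coe g c).1 hc)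
  · rintro γ γ' A A' ⟨g, hg, rfl⟩ ⟨g', hg', rfl⟩
    constructor
    · rintro ⟨x, hx, he⟩
      rw [← AutPSL.pgl_range] at hx
      obtain ⟨h, rfl⟩ := hx
      rw [conj_eq, mul_left_inj] at he
      obtain ⟨c, hc⟩ := (fix_iff (by omega) h g g').1 he.symm
      rw [hg, hg'] at hc
      exact (sim_of_matrix _ c hc).symm
    · intro h
      obtain ⟨P, c, hP⟩ := matrix_of_sim h.symm
      refine ⟨pgl n F P⁻¹, ?_, ?_⟩
      · rw [← AutPSL.pgl_range]; exact ⟨_, rfl⟩
      · rw [conj_eq, mul_left_inj, eq_comm, fix_iff (by omega), hg, hg', inv_inv]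
        exact ⟨c, hP⟩
  · intro γ A hR
    let H := Cfsg.Geo.similarityGroup (bf A)
    let Φ : ↥H →* ↥(Cfsg.inndiagPSL n F ⊓ Subgroup.centralizer {γ}) :=
      ((pgl n F).comp H.subtype).codRestrict _ fun h => ⟨by
        show pgl n F _ ∈ Cfsg.inndiagPSL n F
        rw [← AutPSL.pgl_range]; exact ⟨_, rfl⟩, (mem_centralizer (by omega) hR _).2 h.2⟩
    have hsurj : Function.Surjective Φ := by
      rintro ⟨β, hβ, hc⟩
      rw [SetLike.mem_coe, ← AutPSL.pgl_range] at hβ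
      obtain ⟨h, rfl⟩ := hβ
      exact ⟨⟨h, (mem_centralizer (by omega) hR h).1 hc⟩, rfl⟩
    have hker : Φ.ker = (Cfsg.Geo.scalars (Fin n) F).subgroupOf H := by
      ext x
      rw [MonoidHom.mem_ker, Subgroup.mem_subgroupOf, Cfsg.Geo.mem_scalars_iff]
      constructor
      · intro hx
        obtain ⟨c, hc⟩ := (AutPSL.pgl_eq_one_iff (by omega)).1 (congrArg Subtype.val hx)
        exact ⟨c, (congrArg Units.val hc).trans (AutPSL.scalarGL_coe c)⟩
      · rintro ⟨c, hc⟩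
        refine Subtype.ext ((AutPSL.pgl_eq_one_iff (by omega)).2 ⟨c, Units.ext ?_⟩)
        rw [AutPSL.scalarGL_coe]
        exact hc
    exact ⟨((QuotientGroup.quotientMulEquivOfEq hker.symm).trans
      (QuotientGroup.quotientKerEquivOfSurjective Φ hsurj)).symm⟩

theorem two_eq_zero_or_odd {p f : ℕ} (hp : p.Prime) (hF : Fintype.card F = p ^ f) :
    (Odd p → (2 : F) ≠ 0) ∧ (¬ Odd p → (2 : F) = 0) := by
  refine ⟨fun h => cast_two_of_card_odd (hF ▸ h.pow), fun h => ?_⟩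
  have h2 : p = 2 := hp.even_iff.1 (Nat.not_odd_iff_even.1 h)
  have h0 := FiniteField.cast_card_eq_zero F
  rw [hF, h2, Nat.cast_pow, Nat.cast_ofNat] at h0
  exact eq_zero_of_pow_eq_zero h0

theorem splitting {p f : ℕ} (hp : p.Prime) (hF : Fintype.card F = p ^ f) (hn : 3 ≤ n)
    (γ : MulAut (Matrix.ProjectiveSpecialLinearGroup (Fin n) F))
    (hγ : Cfsg.IsGraphAutClassPSL γ ∧ orderOf γ = 2) :
    ((Even n ∧ Odd p ∧ Nonempty (↥(Cfsg.inndiagPSL n F ⊓ Subgroup.centralizer {γ}) ≃* Cfsg.PGSp (n / 2) F)) →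
      Cfsg.splitClassCount (Cfsg.inndiagPSL n F) (Cfsg.Inn (Matrix.ProjectiveSpecialLinearGroup (Fin n) F)) γ =
        Nat.gcd (n / 2) (p ^ f - 1)) ∧
    ((Even n ∧ Odd p ∧ ¬ Nonempty (↥(Cfsg.inndiagPSL n F ⊓ Subgroup.centralizer {γ}) ≃* Cfsg.PGSp (n / 2) F)) →
      Cfsg.splitClassCount (Cfsg.inndiagPSL n F) (Cfsg.Inn (Matrix.ProjectiveSpecialLinearGroup (Fin n) F)) γ =
        Nat.gcd n (p ^ f - 1) / 2) ∧
    (¬ (Even n ∧ Odd p) →
      Cfsg.splitClassCount (Cfsg.inndiagPSL n F) (Cfsg.Inn (Matrix.ProjectiveSpecialLinearGroup (Fin n) F)) γ =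
        Nat.gcd n (p ^ f - 1)) := by
  obtain ⟨D, hD⟩ := exists_data (F := F) hn
  have hcard : Nat.card Fˣ = p ^ f - 1 := AutPSL.card_units_eq _ hF
  have hsplit : ∀ K : Subgroup Fˣ, ∀ A : Matrix (Fin n) (Fin n) F, D.R γ A →
      (∀ (g : GL (Fin n) F) (c : Fˣ), (g : Matrix (Fin n) (Fin n) F)ᵀ * A * (g : Matrix (Fin n) (Fin n) F) =
        (c : F) • A → Matrix.GeneralLinearGroup.det g ∈ K ⊔ (powMonoidHom n : Fˣ →* Fˣ).range) →
      (∀ c ∈ K, ∃ (g : GL (Fin n) F) (d : Fˣ), (g : Matrix (Fin n) (Fin n) F)ᵀ * A *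
        (g : Matrix (Fin n) (Fin n) F) = (d : F) • A ∧ Matrix.GeneralLinearGroup.det g = c) →
      Cfsg.splitClassCount (Cfsg.inndiagPSL n F) (Cfsg.Inn (Matrix.ProjectiveSpecialLinearGroup (Fin n) F)) γ =
        Nat.gcd n K.index := by
    intro K A hR h1 h2
    rw [hD] at hR
    refine AutPSL.index_detClass (by omega) γ K (fun g hg => ?_) (fun c hc => ?_)
    · obtain ⟨c, hc⟩ := mem_similarity_bf.1 ((mem_centralizer (by omega) hR g).1 hg)
      exact h1 g c hc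
    · obtain ⟨g, d, hg, hd⟩ := h2 c hc
      exact ⟨g, (mem_centralizer (by omega) hR g).2 (mem_similarity_bf.2 ⟨d, hg⟩), hd⟩
  obtain ⟨h2odd, h2even⟩ := two_eq_zero_or_odd (F := F) hp hF
  refine ⟨?_, ?_, fun h => ?_⟩
  · rintro ⟨⟨m, hm⟩, hodd, hiso⟩
    have h2 := h2odd hodd
    have hnm : n = 2 * m := by omega
    rw [show n / 2 = m by omega] at hiso ⊢
    obtain ⟨A, hR, hd, halt, -⟩ := types D h2 hnm (by omega) hγ
    obtain ⟨hdet, hex⟩ := det_sim_alt hd (halt hiso) (m := m) (by rw [Fintype.card_fin, hnm])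
    rw [hsplit (powMonoidHom m : Fˣ →* Fˣ).range A hR
      (fun g c hg => Subgroup.mem_sup_left ⟨c, Units.ext (by
        rw [Matrix.GeneralLinearGroup.val_det_apply, hdet g c hg]; rfl)⟩)
      (by
        rintro _ ⟨c, rfl⟩
        obtain ⟨g, hg, hgd⟩ := hex c
        exact ⟨g, c, hg, Units.ext (by rw [Matrix.GeneralLinearGroup.val_det_apply, hgd]; rfl)⟩)]
    rw [index_pow_range, hcard, hnm, ← Nat.gcd_assoc, Nat.gcd_mul_left_left]
  · rintro ⟨⟨m, hm⟩, hodd, hiso⟩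
    have h2 := h2odd hodd
    have hnm : n = 2 * m := by omega
    rw [show n / 2 = m by omega] at hiso
    obtain ⟨A, hR, hd, -, hsym⟩ := types D h2 hnm (by omega) hγ
    have hs := hsym hiso
    have hcI : Fintype.card (Fin n) = 2 * m := by rw [Fintype.card_fin, hnm]
    have hA : ∀ (g : GL (Fin n) F) (c : Fˣ), (g : Matrix (Fin n) (Fin n) F)ᵀ * A *
        (g : Matrix (Fin n) (Fin n) F) = (c : F) • A → Matrix.GeneralLinearGroup.det g ∈
        (powMonoidHom 2 : Fˣ →* Fˣ).ker ⊔ (powMonoidHom m : Fˣ →* Fˣ).range ⊔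
          (powMonoidHom n : Fˣ →* Fˣ).range := by
      intro g c hg
      refine Subgroup.mem_sup_left ?_
      rcases det_sim_symm hd hcI g c hg with h | h
      · exact Subgroup.mem_sup_right ⟨c, Units.ext (by rw [Matrix.GeneralLinearGroup.val_det_apply, h]; rfl)⟩
      · refine Subgroup.mem_sup.2 ⟨-1, MonoidHom.mem_ker.2 (by simp), c ^ m, ⟨c, rfl⟩, Units.ext ?_⟩
        rw [Matrix.GeneralLinearGroup.val_det_apply, h]
        simp
    have hB : ∀ x ∈ (powMonoidHom 2 : Fˣ →* Fˣ).ker ⊔ (powMonoidHom m : Fˣ →* Fˣ).range,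
        ∃ (g : GL (Fin n) F) (d : Fˣ), (g : Matrix (Fin n) (Fin n) F)ᵀ * A *
          (g : Matrix (Fin n) (Fin n) F) = (d : F) • A ∧ Matrix.GeneralLinearGroup.det g = x := by
      intro x hx
      obtain ⟨s, hs2, _, ⟨c, rfl⟩, rfl⟩ := Subgroup.mem_sup.1 hx
      obtain ⟨⟨g, hg, hgd⟩, g', hg', hgd'⟩ := exists_sim_symm h2 hd hs hcI (by omega) c
      have hs2' : (s : F) * (s : F) = 1 := by
        have := congrArg Units.val (MonoidHom.mem_ker.1 hs2)
        simpa [pow_two] using this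
      rcases mul_self_eq_one_iff.1 hs2' with h | h
      · exact ⟨g, c, hg, Units.ext (by rw [Matrix.GeneralLinearGroup.val_det_apply, hgd]; simp [h])⟩
      · exact ⟨g', c, hg', Units.ext (by rw [Matrix.GeneralLinearGroup.val_det_apply, hgd']; simp [h])⟩
    rw [hsplit _ A hR hA hB, ← AutPSL.index_sup_powMonoidHom, hnm, index_pm_sup m ?_, hcard]
    rw [hcard]
    exact even_iff_two_dvd.1 (Nat.Odd.sub_odd hodd.pow odd_one)
  · obtain ⟨A, hR, hd, -⟩ := D.total γ hγ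
    rw [hsplit ⊥ A hR ?_ ?_, Subgroup.index_bot, hcard]
    · intro g c hg
      have hpar : Odd (Fintype.card (Fin n)) ∨ (2 : F) = 0 := by
        rcases Nat.even_or_odd n with he | ho
        · exact Or.inr (h2even fun ho => h ⟨he, ho⟩)
        · exact Or.inl (by rwa [Fintype.card_fin])
      obtain ⟨d, -, hdd⟩ := det_sim_power hd hpar g c hg
      rw [Fintype.card_fin] at hdd
      exact Subgroup.mem_sup_right ⟨d, hdd.symm⟩
    · intro c hc
      obtain rfl := Subgroup.mem_bot.1 hc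
      exact ⟨1, 1, by simp, map_one _⟩

theorem inverseTranspose_centralizer (hodd : Odd (Fintype.card F)) {m : ℕ} (hm : 2 ≤ m) (hnm : n = 2 * m)
    (ι : MulAut (Matrix.ProjectiveSpecialLinearGroup (Fin n) F)) (hι : Cfsg.IsInverseTransposeAutPSL ι) :
    (Even (n * (Fintype.card F - 1) / 4) →
      Nonempty (↥(Cfsg.inndiagPSL n F ⊓ Subgroup.centralizer {ι}) ≃* Cfsg.PGO F (Cfsg.quadFormPlus m F))) ∧
    (¬ Even (n * (Fintype.card F - 1) / 4) → ∃ a b : F,
      (∀ z₁ z₂ : F, z₁ ^ 2 + a * z₁ * z₂ + b * z₂ ^ 2 = 0 → z₁ = 0 ∧ z₂ = 0) ∧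
      Nonempty (↥(Cfsg.inndiagPSL n F ⊓ Subgroup.centralizer {ι}) ≃*
        Cfsg.PGO F (Cfsg.quadFormMinus (m - 1) F a b))) := by
  obtain rfl := (AutPSL.isInverseTranspose_iff ι).1 hι
  obtain ⟨D, hD⟩ := exists_data (F := F) (n := n) (by omega)
  have h2 : (2 : F) ≠ 0 := cast_two_of_card_odd hodd
  have hR : R (itAut n F) (1 : Matrix (Fin n) (Fin n) F) := ⟨1, by simp, by rw [map_one, one_mul]⟩
  rw [← hD] at hR
  obtain ⟨e⟩ := D.cent _ _ hR
  have heven : Even (Fintype.card (Fin n)) := by rw [Fintype.card_fin, hnm]; exact even_two_mul _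
  -- `(-1)^m` is a square iff `m(q-1)/2` is even
  have hiff : IsSquare ((-1 : F) ^ m) ↔ Even (n * (Fintype.card F - 1) / 4) := by
    obtain ⟨r, hr⟩ := hodd
    have hq : n * (Fintype.card F - 1) / 4 = m * r := by
      rw [hr, Nat.add_sub_cancel, hnm, show 2 * m * (2 * r) = (m * r) * 4 by ring,
        Nat.mul_div_cancel _ (by norm_num)]
    rw [hq, Nat.even_mul]
    rcases Nat.even_or_odd m with he | ho
    · simp [he, he.neg_one_pow]
    · rw [ho.neg_one_pow, FiniteField.isSquare_neg_one_iff, hr, Nat.even_iff, Nat.even_iff]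
      rw [Nat.odd_iff] at ho
      omega
  obtain ⟨k, rfl⟩ : ∃ k, m = k + 1 := ⟨m - 1, by omega⟩
  let e₂ : Fin (k + 1) ⊕ Fin (k + 1) ≃ Fin n := Fintype.equivFinOfCardEq (by simp; omega)
  let e₃ : (Fin k ⊕ Fin k) ⊕ Fin 2 ≃ Fin n := Fintype.equivFinOfCardEq (by simp; omega)
  constructor
  · intro he
    obtain ⟨e'⟩ := pgo_equiv (quadSim_plus h2 (k + 1)) (A := (1 : Matrix (Fin n) (Fin n) F))
      (((sim_even_iff h2 heven (by simp) (B := Matrix.reindex e₂ e₂ (symPlus (k + 1) F))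
        (by rw [Matrix.det_reindex_self, symPlus_det]; exact pow_ne_zero _ (neg_ne_zero.2 one_ne_zero))
        Matrix.transpose_one (by rw [Matrix.transpose_reindex, symPlus_transpose])).2
          (by rw [Matrix.det_one, one_mul, Matrix.det_reindex_self, symPlus_det]; exact hiff.2 he)).trans
        (cong_reindex e₂ _).symm.sim)
    exact ⟨e.trans e'⟩
  · intro he
    obtain ⟨α, hα⟩ := exists_nonsquare h2
    have hα0 : α ≠ 0 := fun h => hα (h ▸ IsSquare.zero)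
    obtain ⟨r, hr⟩ := isSquare_neg_or h2 (fun h => he (hiff.1 h)) hα
    refine ⟨0, -α, binary_aniso hα, ?_⟩
    obtain ⟨e'⟩ := pgo_equiv (quadSim_minus h2 k α) (A := (1 : Matrix (Fin n) (Fin n) F))
      (((sim_even_iff h2 heven (by simp) (B := Matrix.reindex e₃ e₃ (symMinus k α))
        (by
          rw [Matrix.det_reindex_self, symMinus_det]
          refine mul_ne_zero (pow_ne_zero _ (neg_ne_zero.2 one_ne_zero)) (mul_ne_zero ?_ hα0)
          rw [show (4 : F) = 2 * 2 by norm_num]; exact mul_ne_zero h2 h2)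
        Matrix.transpose_one (by rw [Matrix.transpose_reindex, symMinus_transpose])).2
          (by
            rw [Matrix.det_one, one_mul, Matrix.det_reindex_self, symMinus_det]
            exact ⟨2 * r, by linear_combination 4 * hr⟩)).trans
        (cong_reindex e₃ _).symm.sim)
    exact ⟨e.trans e'⟩

end Cfsg.Agent.GraphAut.PSL
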