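import Cfsg.Agent.GraphAut.PSUBase

/-!
Involutory graph automorphisms of `PSU_n(q)` and forms over the field with `q` elements (helper10).
-/

set_option autoImplicit false
set_option linter.unusedSectionVars false
set_option linter.style.haveILetI false

namespace Cfsg.Agent.GraphAut.PSU

open Matrix
open Cfsg (GU PSU projQuot inndiagPSU)
open Cfsg.Agent.AutPSL (fieldMap scalarGL itGL normGL normU twistU Induced)
open Cfsg.Agent.AutPSU (pgu IsSemi normalises_psu fieldMap_mem_GU rho_injective)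

universe u v

variable {n q : ℕ} {F : Type u} [Field F] [Fintype F] {F₀ : Type v} [Field F₀] [Fintype F₀]

theorem exists_prime_pow (hF : Fintype.card F = q ^ 2) :
    ∃ p f : ℕ, p.Prime ∧ 1 ≤ f ∧ q = p ^ f ∧ CharP F p := by
  obtain ⟨p, hp⟩ := CharP.exists F
  obtain ⟨k, hpp, hk⟩ := FiniteField.card F p
  obtain ⟨j, -, hj⟩ := (Nat.dvd_prime_pow hpp).1 (hk ▸ hF ▸ dvd_pow_self q two_ne_zero)
  refine ⟨p, j, hpp, Nat.one_le_iff_ne_zero.2 fun h0 => ?_, hj, hp⟩
  have := Fintype.one_lt_card (α := F)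
  rw [hF, hj, h0] at this
  simp at this

theorem exists_setup (hF : Fintype.card F = q ^ 2) (hn : 3 ≤ n) (hF₀ : Fintype.card F₀ = q) :
    Nonempty (Setup n q F F₀) := by
  obtain ⟨p, f, hp, hf, hq, hchar⟩ := exists_prime_pow hF
  haveI : Fact p.Prime := ⟨hp⟩
  haveI := hchar
  let σ : F ≃+* F := iterateFrobeniusEquiv F p f
  have hσq : ∀ x, σ x = x ^ q := fun x => by rw [hq]; exact iterateFrobeniusEquiv_def F p f x
  have hσ : orderOf σ = 2 := by
    haveI : Fact (Nat.Prime 2) := ⟨Nat.prime_two⟩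
    refine orderOf_eq_prime (RingEquiv.ext fun x => ?_) fun h => ?_
    · rw [pow_two]
      show σ (σ x) = x
      rw [hσq, hσq, ← pow_mul, ← sq, ← hF]
      exact FiniteField.pow_card x
    · obtain ⟨a, ha⟩ := IsCyclic.exists_ofOrder_eq_natCard (α := Fˣ)
      have h1 : a ^ q = a := Units.ext (by rw [Units.val_pow_eq_pow_val, ← hσq, h]; rfl)
      have hq2 : 2 ≤ q := by rw [hq]; exact le_trans hp.two_le (Nat.le_self_pow (by omega) p)
      have h2 : a ^ (q - 1) = 1 := by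
        rw [← Nat.sub_add_cancel (show 1 ≤ q by omega), pow_succ] at h1
        exact mul_eq_right.1 h1
      have h3 := Nat.le_of_dvd (by omega) (orderOf_dvd_of_pow_eq_one h2)
      rw [ha, Nat.card_units, Nat.card_eq_fintype_card, hF] at h3
      have : q + q ≤ q ^ 2 := by nlinarith
      omega
  have hF' : Fintype.card F = p ^ (2 * f) := by rw [hF, hq, ← pow_mul, mul_comm]
  obtain ⟨-, hfix⟩ := AutPSL.card_fixed_eq hσ hp hF' (by omega)
  rw [Nat.mul_div_cancel_left _ (by norm_num : 0 < 2), ← hq, ← hF₀] at hfix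
  obtain ⟨i, hi⟩ := AutPSL.exists_fixed_embedding σ F₀ hfix.symm
  obtain ⟨φ, hφ⟩ := AutPSL.exists_induced (S := Cfsg.SU n F q) rho_injective
    (normalises_psu (one_mem (GU n F q)) σ)
  exact ⟨⟨hF, hn, σ, hσq, hσ, φ, hφ, i, hi⟩⟩

/-- The scalar matrices. -/
local notation "S" => scalarGL (Fin n)

namespace Setup

variable (s : Setup n q F F₀)

theorem bar_mem {g : GL (Fin n) F} (hg : g ∈ GU n F q) : s.bar g ∈ GU n F q := fieldMap_mem_GU hg _

theorem pgu_eq_iff (s : Setup n q F F₀) (a b : GU n F q) :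
    pgu n F q a = pgu n F q b ↔ ∃ c : Fˣ, (a : GL (Fin n) F) = (b : GL (Fin n) F) * S c := by
  rw [← inv_mul_eq_one (a := pgu n F q b) (b := pgu n F q a) |>.trans eq_comm, ← map_inv, ← map_mul,
    AutPSU.pgu_eq_one_iff s.hF s.hn]
  exact exists_congr fun c => inv_mul_eq_iff_eq_mul

theorem conj_eq (h g : GU n F q) :
    pgu n F q h * (pgu n F q g * s.φ) * (pgu n F q h)⁻¹ =
      pgu n F q (h * g * ⟨s.bar (h⁻¹ : GU n F q), s.bar_mem (h⁻¹).2⟩) * s.φ := by
  rw [← map_inv, mul_assoc, mul_assoc (pgu n F q g), AutPSU.semi_comm_pgu s.hF s.hφ, map_mul, map_mul]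
  simp only [mul_assoc]
  rfl

theorem semi_gamma (g : GU n F q) : IsSemi (g : GL (Fin n) F) s.σ (pgu n F q g * s.φ) := by
  have h := Induced.comp (normalises_psu (one_mem (GU n F q)) s.σ) (AutPSU.isSemi_pgu g) s.hφ
  rwa [map_one, mul_one, one_mul] at h

theorem semi_sq {g : GL (Fin n) F} (hg : g ∈ GU n F q) {σ : F ≃+* F} {β : MulAut (PSU n F q)}
    (h : IsSemi g σ β) : IsSemi (g * fieldMap σ g) (σ * σ) (β * β) :=
  Induced.comp (normalises_psu hg σ) h h

theorem sq_eq_one_iff (g : GU n F q) :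
    (pgu n F q g * s.φ) ^ 2 = 1 ↔ ∃ c : Fˣ, (g : GL (Fin n) F) * s.bar (g : GL (Fin n) F) = S c := by
  have h := semi_sq g.2 (s.semi_gamma g)
  rw [show s.σ * s.σ = 1 from RingEquiv.ext s.σσ, ← pow_two] at h
  constructor
  · intro h1
    rw [h1] at h
    exact (AutPSU.IsSemi.eq_one s.hF s.hn (mul_mem g.2 (s.bar_mem g.2)) h).2
  · rintro ⟨c, hc⟩
    exact Induced.ext (normalises_psu (mul_mem g.2 (s.bar_mem g.2)) 1) h (AutPSU.scalar_semi s.hF hc)

theorem orderOf_gamma (g : GU n F q) {c : Fˣ} (hc : (g : GL (Fin n) F) * s.bar (g : GL (Fin n) F) = S c) :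
    orderOf (pgu n F q g * s.φ) = 2 := by
  haveI : Fact (Nat.Prime 2) := ⟨Nat.prime_two⟩
  refine orderOf_eq_prime ((s.sq_eq_one_iff g).2 ⟨c, hc⟩) fun h => ?_
  have h1 := s.semi_gamma g
  rw [h] at h1
  have h2 := s.hσ
  rw [(AutPSU.IsSemi.eq_one s.hF s.hn g.2 h1).1, orderOf_one] at h2
  omega

theorem bar_herm (k : GL (Fin n) F) : s.bar (s.herm k) = (itGL (s.bar k))⁻¹ * k := by
  rw [herm, map_mul, s.bar_bar, s.bar_it, map_inv, map_inv]

theorem herm_twist (k : GL (Fin n) F) : s.herm (s.twist k) = itGL (s.bar k) * s.herm k * k⁻¹ := by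
  rw [twist, herm_mul, inv_inv, map_inv s.bar, s.bar_bar]

/-- The form of a graph automorphism. -/
def R (γ : MulAut (PSU n F q)) (A : Matrix (Fin n) (Fin n) F₀) : Prop :=
  ∃ (A₀ : GL (Fin n) F₀) (k : GL (Fin n) F) (g : GU n F q) (e l : Fˣ),
    (A₀ : Matrix (Fin n) (Fin n) F₀) = A ∧ γ = pgu n F q g * s.φ ∧
      (g : GL (Fin n) F) * S e = s.twist k ∧ s.herm k = s.emb A₀ * S l

theorem sim_of_gl {A A' x₀ : GL (Fin n) F₀} {c : F₀ˣ} (h : itGL x₀⁻¹ * A' * x₀ = A * S c) :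
    (x₀ : Matrix (Fin n) (Fin n) F₀)ᵀ * (A' : Matrix (Fin n) (Fin n) F₀) * (x₀ : Matrix (Fin n) (Fin n) F₀) =
      (c : F₀) • (A : Matrix (Fin n) (Fin n) F₀) := by
  have := congrArg Units.val h
  simpa only [Units.val_mul, AutPSL.itGL_coe, inv_inv, AutPSL.scalarGL_coe, Matrix.mul_smul, Matrix.mul_one]
    using this

theorem gl_of_sim {A A' x₀ : GL (Fin n) F₀} {c : F₀ˣ}
    (h : (x₀ : Matrix (Fin n) (Fin n) F₀)ᵀ * (A' : Matrix (Fin n) (Fin n) F₀) * (x₀ : Matrix (Fin n) (Fin n) F₀) =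
      (c : F₀) • (A : Matrix (Fin n) (Fin n) F₀)) : itGL x₀⁻¹ * A' * x₀ = A * S c := by
  apply Units.ext
  simpa only [Units.val_mul, AutPSL.itGL_coe, inv_inv, AutPSL.scalarGL_coe, Matrix.mul_smul, Matrix.mul_one]
    using h

/-- The centraliser. -/
theorem mem_cent {A₀ : GL (Fin n) F₀} {k : GL (Fin n) F} {g : GU n F q} {e l : Fˣ}
    (hg : (g : GL (Fin n) F) * S e = s.twist k) (hA : s.herm k = s.emb A₀ * S l) (h : GU n F q) :
    pgu n F q h ∈ Subgroup.centralizer ({pgu n F q g * s.φ} : Set _) ↔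
      ∃ (x₀ : GL (Fin n) F₀) (c : F₀ˣ) (t : Fˣ), itGL x₀⁻¹ * A₀ * x₀ = A₀ * S c ∧
        s.iU c * (t * s.sU t) = 1 ∧ (h : GL (Fin n) F) = k * s.emb x₀ * k⁻¹ * S t := by
  rw [AutPSL.mem_centralizer_single, eq_comm, ← mul_inv_eq_iff_eq_mul, conj_eq, mul_left_inj,
    pgu_eq_iff s]
  have key : s.twist ((h : GL (Fin n) F) * k) =
      ((h * g * ⟨s.bar (h⁻¹ : GU n F q), s.bar_mem (h⁻¹).2⟩ : GU n F q) : GL (Fin n) F) * S e := by
    rw [s.twist_mul, ← hg, Subgroup.coe_mul, Subgroup.coe_mul, ← mul_assoc (h : GL (Fin n) F), Setup.S_move]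
    rfl
  constructor
  · rintro ⟨d, hd⟩
    rw [hd, Setup.S_move, hg] at key
    obtain ⟨x₀, t, hk⟩ := s.twist_descend key
    have hA' : s.herm ((h : GL (Fin n) F) * k) = s.emb A₀ * S l := by rw [s.herm_GU_mul h.2, hA]
    obtain ⟨c, hc, hcl⟩ := s.descend_form hA hA' hk
    refine ⟨x₀, c, t, hc, ?_, ?_⟩
    · rw [mul_left_comm] at hcl
      exact mul_eq_left.1 hcl
    · rw [eq_mul_inv_of_mul_eq hk, Setup.S_move]
  · rintro ⟨x₀, c, t, -, -, hh⟩
    refine ⟨t / s.sU t, ?_⟩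
    have h1 : (h : GL (Fin n) F) * k = k * s.emb x₀ * S t := by
      rw [hh, Setup.S_move, inv_mul_cancel_right]
    rw [h1, s.twist_emb, ← hg, Setup.S_move] at key
    exact (mul_right_cancel key).symm

theorem exists_GU {A₀ : GL (Fin n) F₀} {k : GL (Fin n) F} {l : Fˣ} (hA : s.herm k = s.emb A₀ * S l)
    {x₀ : GL (Fin n) F₀} {c : F₀ˣ} (hx : itGL x₀⁻¹ * A₀ * x₀ = A₀ * S c) {t : Fˣ}
    (ht : s.iU c * (t * s.sU t) = 1) : k * s.emb x₀ * k⁻¹ * S t ∈ GU n F q := by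
  rw [s.mem_GU_iff, s.herm_S, s.exists_rel hA hA hx, ← Setup.S_hom]
  rw [mul_comm l (s.iU c), mul_assoc (s.iU c), mul_inv_cancel, mul_one, ht, Setup.S_one]

/-- The forms of the involutory graph automorphisms. -/
theorem exists_data :
    ∃ D : GraphData (inndiagPSU n F q)
      (fun γ : MulAut (PSU n F q) => Cfsg.IsGraphAutClassPSU γ ∧ orderOf γ = 2) F₀ n, D.R = s.R := by
  haveI := s.nonempty
  haveI : Fact (Nat.Prime 2) := ⟨Nat.prime_two⟩
  refine ⟨{ R := s.R, exist := ?_, total := ?_, conj := ?_, cent := ?_ }, rfl⟩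
  · intro A hA hs
    set A₀ := Matrix.GeneralLinearGroup.mk'' A (isUnit_iff_ne_zero.2 hA) with hA₀
    obtain ⟨ε, hε, hAt⟩ : ∃ ε : Fˣ, ε * ε = 1 ∧ itGL (s.emb A₀)⁻¹ = s.emb A₀ * S ε := by
      have e : ∀ ε : F₀ˣ, Aᵀ = (ε : F₀) • A → itGL (s.emb A₀)⁻¹ = s.emb A₀ * S (s.iU ε) := fun ε he => by
        rw [← map_inv, s.it_emb, ← s.emb_S, ← map_mul]
        congr 1
        apply Units.ext
        rw [AutPSL.itGL_coe, inv_inv, Units.val_mul, AutPSL.scalarGL_coe, Matrix.mul_smul, Matrix.mul_one]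
        exact he
      rcases hs with hs | hs
      · exact ⟨s.iU 1, by rw [map_one, one_mul], e 1 (by rw [Units.val_one, one_smul]; exact hs)⟩
      · exact ⟨s.iU (-1), by rw [← map_mul, neg_one_mul, neg_neg, map_one],
          e (-1) (by rw [Units.val_neg, Units.val_one, neg_one_smul]; exact hs)⟩
    -- a multiplier making the matrix Hermitian
    obtain ⟨l, hl⟩ : ∃ l : Fˣ, l / s.sU l = ε := by
      have hσε : s.sU ε = ε := by
        rcases mul_self_eq_one_iff.1 (congrArg Units.val hε : (ε : F) * ε = 1) with h | h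
        · rw [show ε = 1 from Units.ext h, map_one]
        · refine Units.ext ?_
          show s.σ (ε : F) = ε
          rw [h, map_neg, map_one]
      exact s.exists_twist (by rw [hσε, hε])
    set H := s.emb A₀ * S l with hH
    have hbH : itGL (s.bar H)⁻¹ = H := by
      rw [hH, map_mul, s.bar_emb, s.bar_S, _root_.mul_inv_rev, map_mul, hAt, Setup.S_inv, Setup.it_S,
        inv_inv, Setup.S_comm, Setup.S_mul, ← hl, div_mul_cancel]
    obtain ⟨h, hh⟩ := AutPSL.hermitian_decomp s.σ s.hσ H (by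
      have := congrArg Units.val hbH
      rw [AutPSL.itGL_coe, inv_inv] at this
      exact this)
    set k : GL (Fin n) F := itGL h⁻¹ with hk
    have hk' : s.herm k = H := by
      apply Units.ext
      rw [hh, hk, herm, s.bar_it, ← map_inv, AutPSL.itGL_itGL, map_inv, Units.val_mul, AutPSL.itGL_coe,
        inv_inv]
      rfl
    -- the automorphism of the frame is unitary up to a scalar
    have hb : s.bar (itGL k⁻¹ * s.bar k) = itGL k⁻¹ * s.bar k * S (s.sU l / l) := by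
      rw [← herm, hk', hH, map_mul, s.bar_emb, s.bar_S, Setup.S_mul, mul_div_cancel]
    obtain ⟨a, ha⟩ : ∃ a : Fˣ, s.herm (s.twist k) = S a := by
      refine ⟨(s.sU l / l)⁻¹, ?_⟩
      rw [← herm] at hb
      have h1 : s.herm k = s.bar (s.herm k) * S (s.sU l / l)⁻¹ := by
        rw [hb, Setup.S_mul, mul_inv_cancel, Setup.S_one, mul_one]
      rw [s.herm_twist, h1, s.bar_herm, ← mul_assoc, Setup.S_move, mul_inv_cancel_left, mul_inv_cancel,
        one_mul]
    obtain ⟨t, ht⟩ := s.exists_mem_GU ha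
    refine ⟨pgu n F q ⟨_, ht⟩ * s.φ, ⟨A₀, k, ⟨_, ht⟩, t⁻¹, l, rfl, rfl, ?_, hk'⟩, ⟨s.hn, pgu n F q ⟨_, ht⟩,
      s.φ, s.σ, ?_, (AutPSU.isInnerDiagonal_iff _).2 ⟨_, ht, AutPSU.isSemi_pgu ⟨_, ht⟩⟩,
      (AutPSU.isFieldAut_iff _ _).2 s.hφ, rfl⟩, s.orderOf_gamma _ (c := t * s.sU t) ?_⟩
    · show s.twist k * S t * S t⁻¹ = _
      rw [Setup.S_mul, mul_inv_cancel, Setup.S_one, mul_one]
    · rw [s.hσ]; exact even_two
    · show s.twist k * S t * s.bar (s.twist k * S t) = _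
      rw [map_mul, s.bar_S, ← mul_assoc, Setup.S_move t (s.twist k) (s.bar (s.twist k)), s.twist_bar,
        one_mul, ← Setup.S_hom]
  · rintro γ ⟨⟨-, δ, φ', σ', heven, hδ, hφ', rfl⟩, ho⟩
    obtain ⟨g₀, hg₀, hg⟩ := (AutPSU.isInnerDiagonal_iff δ).1 hδ
    obtain rfl := AutPSU.eq_pgu hg₀ hg
    have hφ'' := (AutPSU.isFieldAut_iff σ' φ').1 hφ'
    -- the field automorphism is the `q`-th power map
    have hsemi : IsSemi g₀ σ' (pgu n F q ⟨g₀, hg₀⟩ * φ') := by
      have h := Induced.comp (normalises_psu (one_mem (GU n F q)) σ') (AutPSU.isSemi_pgu ⟨g₀, hg₀⟩) hφ''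
      rwa [map_one, mul_one, one_mul] at h
    have hsq : (pgu n F q ⟨g₀, hg₀⟩ * φ') ^ 2 = 1 := by rw [← ho, pow_orderOf_eq_one]
    have hσ' : orderOf σ' = 2 := by
      have h2 := semi_sq hg₀ hsemi
      rw [← pow_two (pgu n F q ⟨g₀, hg₀⟩ * φ'), hsq] at h2
      have h3 := (AutPSU.IsSemi.eq_one s.hF s.hn (mul_mem hg₀ (fieldMap_mem_GU hg₀ σ')) h2).1
      have h4 : σ' ^ 2 = 1 := by rw [pow_two, h3]
      rcases (Nat.dvd_prime Nat.prime_two).1 (orderOf_dvd_of_pow_eq_one h4) with h | h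
      · rw [h] at heven; exact absurd heven (by decide)
      · exact h
    have hσσ' : σ' = s.σ := by
      obtain ⟨p, f, hp, hf, hq, -⟩ := exists_prime_pow s.hF
      have hF' : Fintype.card F = p ^ (2 * f) := by rw [s.hF, hq, ← pow_mul, mul_comm]
      refine RingEquiv.ext fun x => ?_
      rw [AutPSL.involution_eq_pow hσ' hp hF' (by omega), s.hσq, hq,
        Nat.mul_div_cancel_left _ (by norm_num : 0 < 2)]
    subst hσσ'
    obtain rfl : φ' = s.φ := Induced.ext (normalises_psu (one_mem (GU n F q)) s.σ) hφ'' s.hφ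
    obtain ⟨c, hc⟩ := (s.sq_eq_one_iff ⟨g₀, hg₀⟩).1 hsq
    change g₀ * s.bar g₀ = S c at hc
    have hbg : s.bar g₀ = g₀⁻¹ * S c := by rw [← hc, inv_mul_cancel_left]
    have hcc : s.sU c = c := by
      have h1 := congrArg s.bar hc
      rw [map_mul, s.bar_bar, hbg, Setup.S_move, inv_mul_cancel, one_mul, s.bar_S] at h1
      exact (s.S_inj h1).symm
    obtain ⟨e, he⟩ := s.exists_norm (a := c⁻¹) (by rw [map_inv, hcc])
    obtain ⟨k, hk⟩ : ∃ k, g₀ * S e = s.twist k := by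
      obtain ⟨k, hk⟩ := AutPSL.hilbert90 s.σ (g₀ * S e) (by
        rw [s.hσ]
        show g₀ * S e * s.bar (g₀ * S e * s.bar 1) = 1
        rw [map_one, mul_one, map_mul, s.bar_S, mul_assoc g₀, ← mul_assoc (S e), Setup.S_comm e (s.bar g₀),
          mul_assoc, ← Setup.S_hom, ← mul_assoc, hc, ← Setup.S_hom, he, mul_inv_cancel, Setup.S_one])
      exact ⟨k, hk⟩
    -- the Hermitian matrix is a multiple of a matrix over the subfield
    have hgi : itGL g₀⁻¹ = g₀ * S c⁻¹ := by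
      have h1 := (s.mem_GU_iff g₀).1 hg₀
      rw [herm, hbg, mul_eq_one_iff_eq_inv, _root_.mul_inv_rev, inv_inv, Setup.S_inv, Setup.S_comm] at h1
      exact h1
    have hb : ∃ u, s.bar (s.herm k) = s.herm k * S u := by
      refine ⟨c, ?_⟩
      have hti : itGL (s.twist k)⁻¹ = s.twist k * S c⁻¹ := by
        rw [← hk, _root_.mul_inv_rev, map_mul, hgi, Setup.S_inv, Setup.it_S, inv_inv, Setup.S_comm,
          Setup.S_mul, Setup.S_mul, mul_comm c⁻¹ e]
      have htb : s.bar (s.twist k) = (s.twist k)⁻¹ := eq_inv_of_mul_eq_one_right (s.twist_bar k)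
      have hx : s.twist k * s.bar k = k := by rw [twist, inv_mul_cancel_right]
      have h1 : s.herm k = s.bar (s.herm k) * S c⁻¹ := by
        calc s.herm k = s.herm (s.twist k * s.bar k) := by rw [hx]
          _ = itGL (s.bar k)⁻¹ * (itGL (s.twist k)⁻¹ * s.bar (s.twist k)) * s.bar (s.bar k) := s.herm_mul _ _
          _ = _ := by
            rw [hti, htb, Setup.S_move c⁻¹, mul_inv_cancel, one_mul, Setup.S_move, s.bar_bar, s.bar_herm,
              map_inv]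
      conv_rhs => rw [h1, Setup.S_mul, inv_mul_cancel, Setup.S_one, mul_one]
    obtain ⟨u, hu⟩ := hb
    obtain ⟨A₀, l, hA⟩ := s.fixed_descend hu
    refine ⟨_, ⟨A₀, k, ⟨g₀, hg₀⟩, e, l, rfl, rfl, hk, hA⟩, Matrix.GeneralLinearGroup.det_ne_zero _, ?_⟩
    -- symmetric or skew
    have h1 : s.herm k = itGL (s.bar (s.herm k))⁻¹ := by
      rw [s.bar_herm, _root_.mul_inv_rev, inv_inv, map_mul, AutPSL.itGL_itGL, herm]
    rw [hA, map_mul, s.bar_emb, s.bar_S, _root_.mul_inv_rev, map_mul, Setup.S_inv, Setup.it_S, inv_inv,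
      Setup.S_comm, ← map_inv, s.it_emb] at h1
    have h2 : s.emb (A₀⁻¹ * itGL A₀⁻¹) = S (l / s.sU l) := by
      rw [map_mul, map_inv, inv_mul_eq_iff_eq_mul, div_eq_mul_inv, ← Setup.S_mul, h1, Setup.S_mul,
        mul_inv_cancel, Setup.S_one, mul_one]
    obtain ⟨d, hd, -⟩ := s.descend_scalar h2
    have h3 := congrArg Units.val (inv_mul_eq_iff_eq_mul.1 hd)
    rw [AutPSL.itGL_coe, inv_inv, Units.val_mul, AutPSL.scalarGL_coe, Matrix.mul_smul, Matrix.mul_one] at h3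
    exact PSL.sign_of_transpose (Matrix.GeneralLinearGroup.det_ne_zero _) h3
  · rintro γ γ' A A' ⟨A₀, k, g, e, l, rfl, rfl, hg, hA⟩ ⟨A₀', k', g', e', l', rfl, rfl, hg', hA'⟩
    constructor
    · rintro ⟨x, hx, he⟩
      obtain ⟨h, rfl⟩ := (AutPSU.mem_inndiag_iff x).1 hx
      rw [conj_eq, mul_left_inj, pgu_eq_iff s] at he
      obtain ⟨d, hd⟩ := he
      have key : s.twist ((h : GL (Fin n) F) * k) =
          ((h * g * ⟨s.bar (h⁻¹ : GU n F q), s.bar_mem (h⁻¹).2⟩ : GU n F q) : GL (Fin n) F) * S e := by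
        rw [s.twist_mul, ← hg, Subgroup.coe_mul, Subgroup.coe_mul, ← mul_assoc (h : GL (Fin n) F), Setup.S_move]
        rfl
      rw [show ((h * g * ⟨s.bar (h⁻¹ : GU n F q), s.bar_mem (h⁻¹).2⟩ : GU n F q) : GL (Fin n) F) =
        s.twist k' * S e'⁻¹ * S d⁻¹ by
          rw [← hg', Setup.S_mul e' e'⁻¹, mul_inv_cancel, Setup.S_one, mul_one, hd, Setup.S_mul, mul_inv_cancel,
            Setup.S_one, mul_one], Setup.S_mul, Setup.S_mul] at key
      obtain ⟨x₀, t, hk⟩ := s.twist_descend key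
      have hAh : s.herm ((h : GL (Fin n) F) * k) = s.emb A₀ * S l := by rw [s.herm_GU_mul h.2, hA]
      obtain ⟨c, hc, -⟩ := s.descend_form hA' hAh hk
      exact PSL.sim_of_matrix x₀ c (sim_of_gl hc)
    · intro hsim
      obtain ⟨x₀, c, hx⟩ := matrix_of_sim hsim
      have hx' := gl_of_sim hx
      obtain ⟨t, ht⟩ := s.exists_mem_GU (s.exists_rel hA hA' hx')
      refine ⟨pgu n F q ⟨_, ht⟩, (AutPSU.mem_inndiag_iff _).2 ⟨_, rfl⟩, ?_⟩
      rw [conj_eq, mul_left_inj, pgu_eq_iff s]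
      refine ⟨e * e'⁻¹ * (t / s.sU t)⁻¹, ?_⟩
      have h1 := s.twist_rel k k' x₀ t
      rw [← hg, ← hg', ← mul_assoc, Setup.S_move e _ (s.bar _), Setup.S_mul] at h1
      calc (g' : GL (Fin n) F) = (g' : GL (Fin n) F) * S (e' * (t / s.sU t)) * S (e' * (t / s.sU t))⁻¹ := by
            rw [Setup.S_mul, mul_inv_cancel, Setup.S_one, mul_one]
        _ = _ := by
            rw [← h1, Setup.S_mul, mul_inv, ← mul_assoc e]
            rfl
  · rintro γ A ⟨A₀, k, g, e, l, rfl, rfl, hg, hA⟩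
    let H := Cfsg.Geo.similarityGroup (bf (A₀ : Matrix (Fin n) (Fin n) F₀))
    have hT : ∀ x : ↥H, ∃ (c : F₀ˣ) (t : Fˣ), itGL (x : GL (Fin n) F₀)⁻¹ * A₀ * (x : GL (Fin n) F₀) = A₀ * S c ∧
        s.iU c * (t * s.sU t) = 1 := fun x => by
      obtain ⟨c, hc⟩ := mem_similarity_bf.1 x.2
      obtain ⟨t, ht⟩ := s.exists_norm (a := (s.iU c)⁻¹) (by rw [map_inv, s.sU_iU])
      exact ⟨c, t, gl_of_sim hc, by rw [ht, mul_inv_cancel]⟩
    choose C T hC hT using hT
    have hmem : ∀ x : ↥H, k * s.emb (x : GL (Fin n) F₀) * k⁻¹ * S (T x) ∈ GU n F q :=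
      fun x => s.exists_GU hA (hC x) (hT x)
    let Φ : ↥H →* ↥(inndiagPSU n F q ⊓ Subgroup.centralizer {pgu n F q g * s.φ}) :=
      MonoidHom.mk' (fun x => ⟨pgu n F q ⟨_, hmem x⟩, (AutPSU.mem_inndiag_iff _).2 ⟨_, rfl⟩,
        (s.mem_cent hg hA ⟨_, hmem x⟩).2 ⟨x, C x, T x, hC x, hT x, rfl⟩⟩) fun x y => Subtype.ext (by
        show pgu n F q ⟨_, hmem (x * y)⟩ = pgu n F q ⟨_, hmem x⟩ * pgu n F q ⟨_, hmem y⟩
        rw [← map_mul, pgu_eq_iff s]
        refine ⟨T (x * y) * (T x * T y)⁻¹, ?_⟩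
        have e1 : k * s.emb (x : GL (Fin n) F₀) * k⁻¹ * S (T x) * (k * s.emb (y : GL (Fin n) F₀) * k⁻¹ * S (T y)) =
            k * s.emb ((x * y : ↥H) : GL (Fin n) F₀) * k⁻¹ * S (T x * T y) := by
          rw [← mul_assoc, Setup.S_move _ _ (k * _ * _), Setup.S_mul, Subgroup.coe_mul, map_mul]
          group
        show k * s.emb ((x * y : ↥H) : GL (Fin n) F₀) * k⁻¹ * S (T (x * y)) = _
        rw [Subgroup.coe_mul (GU n F q), e1, Setup.S_mul, mul_left_comm, mul_inv_cancel, mul_one])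
    have hsurj : Function.Surjective Φ := by
      rintro ⟨β, hβ, hc⟩
      obtain ⟨h, rfl⟩ := (AutPSU.mem_inndiag_iff β).1 hβ
      obtain ⟨x₀, c, t, hx, -, hh⟩ := (s.mem_cent hg hA h).1 hc
      refine ⟨⟨x₀, mem_similarity_bf.2 ⟨c, sim_of_gl hx⟩⟩, Subtype.ext ((pgu_eq_iff s _ _).2 ?_)⟩
      refine ⟨T ⟨x₀, mem_similarity_bf.2 ⟨c, sim_of_gl hx⟩⟩ * t⁻¹, ?_⟩
      rw [hh, Setup.S_mul, mul_left_comm, mul_inv_cancel, mul_one]
    have hker : Φ.ker = (Cfsg.Geo.scalars (Fin n) F₀).subgroupOf H := by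
      ext x
      rw [MonoidHom.mem_ker, Subgroup.mem_subgroupOf, Cfsg.Geo.mem_scalars_iff]
      constructor
      · intro hx
        obtain ⟨d, hd⟩ := (AutPSU.pgu_eq_one_iff s.hF s.hn).1 (congrArg Subtype.val hx)
        change k * s.emb (x : GL (Fin n) F₀) * k⁻¹ * S (T x) = S d at hd
        have h1 : s.emb (x : GL (Fin n) F₀) = S (d * (T x)⁻¹) := by
          have h2 : k * s.emb (x : GL (Fin n) F₀) * k⁻¹ = S (d * (T x)⁻¹) := by
            rw [Setup.S_hom, ← Setup.S_inv, ← hd, mul_inv_cancel_right]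
          rw [mul_inv_eq_iff_eq_mul, Setup.S_comm] at h2
          exact mul_left_cancel h2
        obtain ⟨c, hc, -⟩ := s.descend_scalar h1
        exact ⟨c, by rw [hc, AutPSL.scalarGL_coe]⟩
      · rintro ⟨c, hc⟩
        refine Subtype.ext ((AutPSU.pgu_eq_one_iff s.hF s.hn).2 ⟨s.iU c * T x, ?_⟩)
        have hx : (x : GL (Fin n) F₀) = S c := Units.ext (by rw [hc, AutPSL.scalarGL_coe])
        show k * s.emb (x : GL (Fin n) F₀) * k⁻¹ * S (T x) = _
        rw [hx, s.emb_S, Setup.S_move, mul_inv_cancel, one_mul, Setup.S_hom]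
    exact ⟨((QuotientGroup.quotientMulEquivOfEq hker.symm).trans
      (QuotientGroup.quotientKerEquivOfSurjective Φ hsurj)).symm⟩

end Setup

end Cfsg.Agent.GraphAut.PSU
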