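import Cfsg.Agent.GraphAut.PSL
import Cfsg.Agent.AutPSU.Centralizer

/-!
The semilinear algebra behind the involutory graph automorphisms of `PSU_n(q)` (helper10).
-/

set_option autoImplicit false
set_option linter.unusedSectionVars false
set_option linter.style.haveILetI false

namespace Cfsg.Agent.GraphAut.PSU

open Matrix
open Cfsg (GU PSU)
open Cfsg.Agent.AutPSL (fieldMap scalarGL itGL normGL normU twistU)
open Cfsg.Agent.AutPSU (pgu IsSemi normalises_psu fieldMap_mem_GU)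

universe u v

variable {n q : ℕ} {F : Type u} [Field F] [Fintype F] {F₀ : Type v} [Field F₀] [Fintype F₀]

/-- The scalar matrices. -/
local notation "S" => scalarGL (Fin n)

/-- What is fixed throughout: the `q`-th power map, the standard automorphism, and the subfield. -/
structure Setup (n q : ℕ) (F : Type u) [Field F] [Fintype F] (F₀ : Type v) [Field F₀] [Fintype F₀] where
  hF : Fintype.card F = q ^ 2
  hn : 3 ≤ n
  σ : F ≃+* F
  hσq : ∀ x, σ x = x ^ q
  hσ : orderOf σ = 2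
  φ : MulAut (PSU n F q)
  hφ : IsSemi 1 σ φ
  i : F₀ →+* F
  hi : ∀ x : F, σ x = x ↔ ∃ y, i y = x

namespace Setup

variable (s : Setup n q F F₀)

theorem σσ (x : F) : s.σ (s.σ x) = x := by
  have h := pow_orderOf_eq_one s.σ
  rw [s.hσ, pow_two] at h
  exact DFunLike.congr_fun h x

theorem nonempty (s : Setup n q F F₀) : Nonempty (Fin n) := ⟨⟨0, by have := s.hn; omega⟩⟩

/-- Conjugation of the entries. -/
noncomputable def bar : GL (Fin n) F →* GL (Fin n) F := fieldMap s.σ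

/-- The inclusion of the subfield. -/
noncomputable def emb : GL (Fin n) F₀ →* GL (Fin n) F := Matrix.GeneralLinearGroup.map s.i

/-- The inclusion on units. -/
def iU : F₀ˣ →* Fˣ := Units.map (s.i : F₀ →* F)

/-- Conjugation on units. -/
def sU : Fˣ →* Fˣ := Units.map (s.σ.toRingHom : F →* F)

theorem bar_bar (g : GL (Fin n) F) : s.bar (s.bar g) = g :=
  Units.ext (Matrix.ext fun _ _ => s.σσ _)

theorem bar_S (c : Fˣ) : s.bar (S c) = S (s.sU c) := AutPSL.fieldMap_scalarGL _ _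

theorem bar_it (g : GL (Fin n) F) : s.bar (itGL g) = itGL (s.bar g) := (AutPSL.itGL_fieldMap _ _).symm

theorem bar_emb (g : GL (Fin n) F₀) : s.bar (s.emb g) = s.emb g :=
  Units.ext (Matrix.ext fun _ _ => (s.hi _).2 ⟨_, rfl⟩)

theorem it_emb (g : GL (Fin n) F₀) : itGL (s.emb g) = s.emb (itGL g) := by
  apply Units.ext
  rw [AutPSL.itGL_coe, ← map_inv]
  exact Matrix.transpose_map.symm

theorem sU_iU (c : F₀ˣ) : s.sU (s.iU c) = s.iU c := Units.ext ((s.hi _).2 ⟨_, rfl⟩)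

theorem iU_injective : Function.Injective s.iU := fun _ _ h =>
  Units.ext (s.i.injective (congrArg Units.val h))

theorem sU_sU (c : Fˣ) : s.sU (s.sU c) = c := Units.ext (s.σσ _)

theorem exists_iU {c : Fˣ} (h : s.sU c = c) : ∃ c₀, s.iU c₀ = c := by
  obtain ⟨y, hy⟩ := (s.hi _).1 (congrArg Units.val h)
  exact ⟨Units.mk0 y (fun h0 => c.ne_zero (by rw [← hy, h0, map_zero])), Units.ext hy⟩

theorem emb_S (c : F₀ˣ) : s.emb (S c) = S (s.iU c) := Matrix.GeneralLinearGroup.map_scalar _ _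

theorem emb_injective : Function.Injective s.emb := fun g h e =>
  Units.ext (Matrix.ext fun a b => s.i.injective
    (congrArg (fun x : GL (Fin n) F => (x : Matrix (Fin n) (Fin n) F) a b) e))

theorem it_S {K : Type*} [Field K] (c : Kˣ) : itGL (S c) = S c⁻¹ := by
  apply Units.ext
  rw [AutPSL.itGL_coe, ← map_inv, AutPSL.scalarGL_coe, Matrix.transpose_smul,
    Matrix.transpose_one]

theorem S_one {K : Type*} [Field K] : (S (1 : Kˣ) : GL (Fin n) K) = 1 := map_one _

theorem S_hom {K : Type*} [Field K] (a b : Kˣ) : (S (a * b) : GL (Fin n) K) = S a * S b := map_mul _ _ _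

theorem S_inv {K : Type*} [Field K] (a : Kˣ) : ((S a)⁻¹ : GL (Fin n) K) = S a⁻¹ := (map_inv _ _).symm

theorem S_mul (a b : Fˣ) (x : GL (Fin n) F) : x * S a * S b = x * S (a * b) := by
  rw [mul_assoc, ← S_hom]

theorem S_comm {K : Type*} [Field K] (c : Kˣ) (g : GL (Fin n) K) : S c * g = g * S c :=
  AutPSL.scalarGL_mul_comm c g

theorem S_move {K : Type*} [Field K] (c : Kˣ) (x g : GL (Fin n) K) : x * S c * g = x * g * S c := by
  rw [mul_assoc, S_comm, ← mul_assoc]

theorem S_inj (s : Setup n q F F₀) {a b : Fˣ} (h : (S a : GL (Fin n) F) = S b) : a = b := by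
  haveI := s.nonempty
  exact AutPSL.scalarGL_injective h

theorem descend_scalar {g : GL (Fin n) F₀} {a : Fˣ} (h : s.emb g = S a) :
    ∃ c : F₀ˣ, g = S c ∧ s.iU c = a := by
  have h1 := congrArg s.bar h
  rw [s.bar_emb, s.bar_S, h] at h1
  obtain ⟨c, hc⟩ := s.exists_iU (s.S_inj h1).symm
  refine ⟨c, s.emb_injective ?_, hc⟩
  rw [h, s.emb_S, hc]

theorem exists_twist {u : Fˣ} (h : u * s.sU u = 1) : ∃ t : Fˣ, t / s.sU t = u := by
  obtain ⟨t, ht⟩ := AutPSL.exists_twist s.σ u (Units.ext (by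
    rw [s.hσ, AutPSL.normU_two]; exact congrArg Units.val h))
  exact ⟨t, ht.symm⟩

theorem exists_norm {a : Fˣ} (h : s.sU a = a) : ∃ t : Fˣ, t * s.sU t = a := by
  obtain ⟨t, ht⟩ := AutPSL.exists_norm_eq s.σ a (congrArg Units.val h)
  rw [s.hσ] at ht
  exact ⟨t, Units.ext (by rw [← ht, AutPSL.normU_two]; rfl)⟩

theorem fixed_descend {x : GL (Fin n) F} {u : Fˣ} (h : s.bar x = x * S u) :
    ∃ (x₀ : GL (Fin n) F₀) (t : Fˣ), x = s.emb x₀ * S t := by
  have h1 := congrArg s.bar h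
  rw [s.bar_bar, map_mul, h, s.bar_S, S_mul] at h1
  have hu : u * s.sU u = 1 := s.S_inj ((mul_eq_left.1 h1.symm).trans S_one.symm)
  obtain ⟨t, ht⟩ := s.exists_twist hu
  have hfix : s.bar (x * S t) = x * S t := by
    rw [map_mul, h, s.bar_S, S_mul, ← ht, div_mul_cancel]
  have hentry : ∀ a b, ∃ y, s.i y = ((x * S t : GL (Fin n) F) : Matrix (Fin n) (Fin n) F) a b :=
    fun a b => (s.hi _).1 (congrArg (fun g : GL (Fin n) F => (g : Matrix (Fin n) (Fin n) F) a b) hfix)
  choose M hM using hentry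
  have hMd : (Matrix.of M).map s.i = ((x * S t : GL (Fin n) F) : Matrix (Fin n) (Fin n) F) := Matrix.ext hM
  have hu' : IsUnit (Matrix.of M).det := by
    refine isUnit_iff_ne_zero.mpr fun hz => Matrix.GeneralLinearGroup.det_ne_zero (x * S t) ?_
    rw [← hMd, ← RingHom.mapMatrix_apply, ← RingHom.map_det, hz, map_zero]
  refine ⟨Matrix.GeneralLinearGroup.mk'' _ hu', t⁻¹, ?_⟩
  rw [show s.emb (Matrix.GeneralLinearGroup.mk'' _ hu') = x * S t from Units.ext hMd, S_mul,
    mul_inv_cancel, S_one, mul_one]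

/-- The Hermitian matrix `kᵀ k̄`. -/
noncomputable def herm (k : GL (Fin n) F) : GL (Fin n) F := itGL k⁻¹ * s.bar k

theorem herm_mul (a b : GL (Fin n) F) : s.herm (a * b) = itGL b⁻¹ * s.herm a * s.bar b := by
  rw [herm, herm, _root_.mul_inv_rev, map_mul, map_mul]
  simp only [mul_assoc]

theorem herm_S (g : GL (Fin n) F) (t : Fˣ) : s.herm (g * S t) = s.herm g * S (t * s.sU t) := by
  rw [herm_mul, ← map_inv, it_S, inv_inv, s.bar_S, S_comm, S_mul]

theorem mem_GU_iff (g : GL (Fin n) F) : g ∈ GU n F q ↔ s.herm g = 1 := by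
  rw [herm, map_inv, inv_mul_eq_one, AutPSL.hermForm_preserved_iff s.hσq s.σσ]
  constructor
  · intro h
    have e : itGL (s.bar g) = g := by
      apply Units.ext
      rw [AutPSL.itGL_coe]
      have h2 : s.bar g⁻¹ = itGL (itGL (s.bar g⁻¹)) := (AutPSL.itGL_itGL _).symm
      have h3 : (g : Matrix (Fin n) (Fin n) F) * ((s.bar g : GL (Fin n) F) : Matrix (Fin n) (Fin n) F)ᵀ = 1 := h
      have h4 : ((s.bar g : GL (Fin n) F) : Matrix (Fin n) (Fin n) F)ᵀ *
          (((s.bar g)⁻¹ : GL (Fin n) F) : Matrix (Fin n) (Fin n) F)ᵀ = 1 := by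
        rw [← Matrix.transpose_mul, ← Units.val_mul, inv_mul_cancel, Units.val_one, Matrix.transpose_one]
      exact (left_inv_eq_right_inv h3 h4).symm
    have := congrArg s.bar e
    rwa [s.bar_it, s.bar_bar] at this
  · intro h
    have e : itGL (s.bar g) = g := by rw [← s.bar_it, h, s.bar_bar]
    show (g : Matrix (Fin n) (Fin n) F) * ((s.bar g : GL (Fin n) F) : Matrix (Fin n) (Fin n) F)ᵀ = 1
    refine (congrArg (· * _) ((congrArg Units.val e).symm.trans (AutPSL.itGL_coe _))).trans ?_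
    rw [← Matrix.transpose_mul, ← Units.val_mul, mul_inv_cancel, Units.val_one, Matrix.transpose_one]

theorem herm_scalar_fixed {g : GL (Fin n) F} {a : Fˣ} (h : s.herm g = S a) : s.sU a = a := by
  have h0 : s.bar g = itGL g * S a := by
    rw [← h, herm, map_inv, mul_inv_cancel_left]
  have h1 := congrArg s.bar h0
  rw [s.bar_bar, map_mul, s.bar_it, h0, map_mul, AutPSL.itGL_itGL, it_S, s.bar_S, S_mul] at h1
  have h2 := s.S_inj ((mul_eq_left.1 h1.symm).trans S_one.symm)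
  exact (inv_mul_eq_one.1 h2).symm

theorem exists_mem_GU {g : GL (Fin n) F} {a : Fˣ} (h : s.herm g = S a) :
    ∃ t : Fˣ, g * S t ∈ GU n F q := by
  obtain ⟨t, ht⟩ := s.exists_norm (a := a⁻¹) (by rw [map_inv, s.herm_scalar_fixed h])
  exact ⟨t, (s.mem_GU_iff _).2 (by rw [herm_S, h, ht, ← S_hom, mul_inv_cancel, S_one])⟩

theorem herm_GU_mul {h : GL (Fin n) F} (hh : h ∈ GU n F q) (k : GL (Fin n) F) :
    s.herm (h * k) = s.herm k := by
  rw [herm_mul, (s.mem_GU_iff h).1 hh, mul_one, herm]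

/-- Two frames over one form differ by a similarity. -/
theorem descend_form {A A' : GL (Fin n) F₀} {k k' : GL (Fin n) F} {l l' t : Fˣ} {x₀ : GL (Fin n) F₀}
    (hA : s.herm k = s.emb A * S l) (hA' : s.herm k' = s.emb A' * S l')
    (hk : k' = k * s.emb x₀ * S t) :
    ∃ c : F₀ˣ, itGL x₀⁻¹ * A * x₀ = A' * S c ∧ s.iU c * (l * (t * s.sU t)) = l' := by
  rw [hk, herm_S, herm_mul, hA, ← map_inv, s.it_emb, s.bar_emb, ← mul_assoc, ← map_mul, S_move,
    ← map_mul, S_mul] at hA'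
  have h1 : s.emb (A'⁻¹ * (itGL x₀⁻¹ * A * x₀)) = S (l' / (l * (t * s.sU t))) := by
    rw [map_mul, map_inv, inv_mul_eq_iff_eq_mul]
    calc s.emb (itGL x₀⁻¹ * A * x₀)
        = s.emb (itGL x₀⁻¹ * A * x₀) * S (l * (t * s.sU t)) * S (l * (t * s.sU t))⁻¹ := by
          rw [S_mul, mul_inv_cancel, S_one, mul_one]
      _ = _ := by rw [hA', S_mul, div_eq_mul_inv]
  obtain ⟨c, hc, hcl⟩ := s.descend_scalar h1
  exact ⟨c, inv_mul_eq_iff_eq_mul.1 hc, by rw [hcl, div_mul_cancel]⟩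

/-- The frame `k` and its automorphism `k k̄⁻¹`. -/
noncomputable def twist (k : GL (Fin n) F) : GL (Fin n) F := k * (s.bar k)⁻¹

theorem twist_bar (k : GL (Fin n) F) : s.twist k * s.bar (s.twist k) = 1 := by
  rw [twist, map_mul, map_inv, s.bar_bar]; group

theorem twist_emb (k : GL (Fin n) F) (x₀ : GL (Fin n) F₀) (t : Fˣ) :
    s.twist (k * s.emb x₀ * S t) = s.twist k * S (t / s.sU t) := by
  rw [twist, twist, map_mul, map_mul, s.bar_emb, s.bar_S, _root_.mul_inv_rev, _root_.mul_inv_rev,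
    S_inv, div_eq_mul_inv]
  calc k * s.emb x₀ * S t * (S (s.sU t)⁻¹ * ((s.emb x₀)⁻¹ * (s.bar k)⁻¹))
      = k * s.emb x₀ * S (t * (s.sU t)⁻¹) * ((s.emb x₀)⁻¹ * (s.bar k)⁻¹) := by
        rw [S_hom]; simp only [mul_assoc]
    _ = _ := by rw [S_move]; group

theorem twist_mul (h k : GL (Fin n) F) : s.twist (h * k) = h * s.twist k * s.bar h⁻¹ := by
  rw [twist, twist, map_mul, map_inv]; group

/-- Frames with the same automorphism differ by an element over the subfield. -/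
theorem twist_descend {k k' : GL (Fin n) F} {d : Fˣ} (h : s.twist k' = s.twist k * S d) :
    ∃ (x₀ : GL (Fin n) F₀) (t : Fˣ), k' = k * s.emb x₀ * S t := by
  have hb : s.bar (k⁻¹ * k') = k⁻¹ * k' * S d⁻¹ := by
    rw [twist, twist, mul_inv_eq_iff_eq_mul, S_move, mul_assoc k, mul_assoc k] at h
    rw [map_mul, map_inv]
    conv_rhs => rw [h, inv_mul_cancel_left, S_mul, mul_inv_cancel, S_one, mul_one]
  obtain ⟨x₀, t, hx⟩ := s.fixed_descend hb
  exact ⟨x₀, t, by rw [mul_assoc, ← hx, mul_inv_cancel_left]⟩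

/-- A similarity gives a unitary matrix carrying one automorphism to the other. -/
theorem exists_rel {A A' : GL (Fin n) F₀} {k k' : GL (Fin n) F} {l l' : Fˣ} {x₀ : GL (Fin n) F₀} {c : F₀ˣ}
    (hA : s.herm k = s.emb A * S l) (hA' : s.herm k' = s.emb A' * S l')
    (hx : itGL x₀⁻¹ * A' * x₀ = A * S c) :
    s.herm (k' * s.emb x₀ * k⁻¹) = S (l' * s.iU c * l⁻¹) := by
  rw [herm_mul, herm_mul, hA', inv_inv, ← map_inv, s.it_emb, s.bar_emb, ← mul_assoc (s.emb (itGL x₀⁻¹)),
    ← map_mul, S_move, ← map_mul, hx, map_mul, s.emb_S, S_mul, ← mul_assoc, S_move]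
  have hA2 : s.emb A = s.herm k * S l⁻¹ := by rw [hA, S_mul, mul_inv_cancel, S_one, mul_one]
  rw [hA2, herm, map_inv]
  calc itGL k * ((itGL k)⁻¹ * s.bar k * S l⁻¹) * s.bar k⁻¹ * S (s.iU c * l')
      = S l⁻¹ * (s.bar k * s.bar k⁻¹) * S (s.iU c * l') := by
        rw [← mul_assoc, ← mul_assoc, mul_inv_cancel, one_mul, ← S_comm l⁻¹ (s.bar k)]; simp only [mul_assoc]
    _ = _ := by
        rw [← map_mul, mul_inv_cancel, map_one, mul_one, ← S_hom]
        congr 1
        rw [mul_comm (s.iU c), mul_comm l⁻¹]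

theorem twist_rel (k k' : GL (Fin n) F) (x₀ : GL (Fin n) F₀) (t : Fˣ) :
    k' * s.emb x₀ * k⁻¹ * S t * s.twist k * s.bar (k' * s.emb x₀ * k⁻¹ * S t)⁻¹ =
      s.twist k' * S (t / s.sU t) := by
  rw [← s.twist_mul, S_move, inv_mul_cancel_right, s.twist_emb]

end Setup

end Cfsg.Agent.GraphAut.PSU
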