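import Cfsg.Agent.GraphAut.PSU

/-!
The splitting of the classes of involutory graph automorphisms of `PSU_n(q)` (helper10).
-/

set_option autoImplicit false
set_option linter.unusedSectionVars false
set_option linter.style.haveILetI false

namespace Cfsg.Agent.GraphAut.PSU

open Matrix Cfsg.Agent.Unitary
open Cfsg (GU SU PSU inndiagPSU)
open Cfsg.Agent.AutPSL (itGL)
open Cfsg.Agent.AutPSU (pgu piU piU_surjective pgu_rho pgu_range)

universe u v

variable {n q : ℕ} {F : Type u} [Field F] [Fintype F] {F₀ : Type v} [Field F₀] [Fintype F₀]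

variable (F q) in
/-- The norm one units. -/
abbrev U1 : Subgroup Fˣ := (powMonoidHom (q + 1) : Fˣ →* Fˣ).ker

/-- The determinant of a unitary matrix has norm one. -/
noncomputable def detU (hF : Fintype.card F = q ^ 2) : GU n F q →* ↥(U1 q F) :=
  (detGU : GU n F q →* Fˣ).codRestrict _ fun g => Units.ext (by simpa using det_norm hF g)

theorem detU_coe (hF : Fintype.card F = q ^ 2) (g : GU n F q) :
    ((detU hF g : ↥(U1 q F)) : Fˣ) = Matrix.GeneralLinearGroup.det (g : GL (Fin n) F) := rfl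

theorem split_eq (hF : Fintype.card F = q ^ 2) (hn : 3 ≤ n) (x : MulAut (PSU n F q)) :
    Cfsg.splitClassCount (inndiagPSU n F q) (Cfsg.Inn (PSU n F q)) x =
      (((Subgroup.centralizer ({x} : Set _)).comap (pgu n F q)).map (detU hF) ⊔
        (powMonoidHom n : ↥(U1 q F) →* ↥(U1 q F)).range).index := by
  classical
  set dM : GU n F q →* ↥(U1 q F) := detU hF with hdM
  let N : Subgroup ↥(U1 q F) := (powMonoidHom n : ↥(U1 q F) →* ↥(U1 q F)).range
  have hdsurj : Function.Surjective dM := by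
    rintro ⟨c, hc⟩
    obtain ⟨g, hg⟩ := Unitary.exists_det_eq hF (n := n) (by omega) (a := (c : F))
      (by simpa using congrArg Units.val hc)
    exact ⟨g, Subtype.ext (Units.ext hg)⟩
  have hnorm : ∀ c : ↥(U1 q F), ((c : Fˣ) : F) * ((c : Fˣ) : F) ^ q = 1 := fun c => by
    rw [← pow_succ']; simpa using congrArg Units.val c.2
  have hscalar : ∀ c : ↥(U1 q F), dM ⟨AutPSL.scalarGL (Fin n) (c : Fˣ),
      (AutPSU.scalarGL_mem_GU hF (by omega) _).2 (hnorm c)⟩ = c ^ n := by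
    intro c
    apply Subtype.ext
    show Matrix.GeneralLinearGroup.det (AutPSL.scalarGL (Fin n) (c : Fˣ)) = _
    rw [Matrix.GeneralLinearGroup.det_scalar, Fintype.card_fin]
    rfl
  have hker : (pgu n F q).ker ≤ N.comap dM := by
    intro g hg
    obtain ⟨c, hc⟩ := (AutPSU.pgu_eq_one_iff hF hn).1 (MonoidHom.mem_ker.1 hg)
    have hc1 : (c : F) * (c : F) ^ q = 1 := (AutPSU.scalarGL_mem_GU hF (by omega) c).1 (hc ▸ g.2)
    refine ⟨⟨c, Units.ext (by simpa [pow_succ'] using hc1)⟩, ?_⟩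
    rw [powMonoidHom_apply, ← hscalar]
    exact congrArg dM (Subtype.ext hc.symm)
  have hinn : Cfsg.Inn (PSU n F q) = (N.comap dM).map (pgu n F q) := by
    ext β
    constructor
    · rintro ⟨x, rfl⟩
      obtain ⟨s, rfl⟩ := piU_surjective x
      refine ⟨toGU s, ?_, pgu_rho s⟩
      refine ⟨1, Subtype.ext (Units.ext ?_)⟩
      rw [powMonoidHom_apply, one_pow]
      exact s.1.2.symm
    · rintro ⟨g, hg, rfl⟩
      obtain ⟨c, hc⟩ := hg
      set sc : GU n F q := ⟨AutPSL.scalarGL _ (c : Fˣ), (AutPSU.scalarGL_mem_GU hF (by omega) _).2 (hnorm c)⟩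
      have hd1 : detGU (g * sc⁻¹) = 1 := by
        have : dM (g * sc⁻¹) = 1 := by
          rw [map_mul, map_inv, hscalar]
          rw [powMonoidHom_apply] at hc
          rw [hc, mul_inv_cancel]
        exact congrArg Subtype.val this
      obtain ⟨s, hs⟩ : g * sc⁻¹ ∈ (toGU : SU n F q →* GU n F q).range := by
        rw [range_toGU]; exact hd1
      refine ⟨piU n F q s, ?_⟩
      rw [← pgu_rho, hs, map_mul, map_inv,
        show pgu n F q sc = 1 from (AutPSU.pgu_eq_one_iff hF hn).2 ⟨_, rfl⟩, inv_one, mul_one]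
  rw [← pgu_range, hinn]
  exact AutPSU.splitClassCount_mod (pgu n F q) dM N hdsurj hker x

namespace Setup

variable (s : Setup n q F F₀)

theorem sU_eq_pow (u : Fˣ) : s.sU u = u ^ q :=
  Units.ext ((s.hσq _).trans (Units.val_pow_eq_pow_val _ _).symm)

theorem mem_U1_iff (u : Fˣ) : u ∈ U1 q F ↔ u * s.sU u = 1 := by
  rw [MonoidHom.mem_ker, powMonoidHom_apply, pow_succ', s.sU_eq_pow]

theorem det_elt (k : GL (Fin n) F) (x₀ : GL (Fin n) F₀) (t : Fˣ) :
    Matrix.GeneralLinearGroup.det (k * s.emb x₀ * k⁻¹ * AutPSL.scalarGL (Fin n) t) =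
      s.iU (Matrix.GeneralLinearGroup.det x₀) * t ^ n := by
  rw [map_mul, map_mul, map_mul, map_inv, Matrix.GeneralLinearGroup.det_scalar, Fintype.card_fin,
    mul_comm (Matrix.GeneralLinearGroup.det k), mul_inv_cancel_right]
  congr 1
  apply Units.ext
  rw [Matrix.GeneralLinearGroup.val_det_apply]
  show ((x₀ : Matrix (Fin n) (Fin n) F₀).map s.i).det = s.i _
  rw [Matrix.GeneralLinearGroup.val_det_apply, RingHom.map_det]
  rfl

theorem splitting (s : Setup n q F F₀) (hF₀ : Fintype.card F₀ = q) (γ : MulAut (PSU n F q))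
    (hγ : Cfsg.IsGraphAutClassPSU γ ∧ orderOf γ = 2) :
    ((Even n ∧ Odd q ∧ Nonempty (↥(inndiagPSU n F q ⊓ Subgroup.centralizer {γ}) ≃* Cfsg.PGSp (n / 2) F₀)) →
      Cfsg.splitClassCount (inndiagPSU n F q) (Cfsg.Inn (PSU n F q)) γ = Nat.gcd (n / 2) (q + 1)) ∧
    ((Even n ∧ Odd q ∧ ¬ Nonempty (↥(inndiagPSU n F q ⊓ Subgroup.centralizer {γ}) ≃* Cfsg.PGSp (n / 2) F₀)) →
      Cfsg.splitClassCount (inndiagPSU n F q) (Cfsg.Inn (PSU n F q)) γ = Nat.gcd n (q + 1) / 2) ∧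
    (¬ (Even n ∧ Odd q) →
      Cfsg.splitClassCount (inndiagPSU n F q) (Cfsg.Inn (PSU n F q)) γ = Nat.gcd n (q + 1)) := by
  obtain ⟨D, hD⟩ := s.exists_data
  have hF := s.hF
  have hcardU : Nat.card ↥(U1 q F) = q + 1 := card_norm_one_units hF
  have hn := s.hn
  let U := ↥(U1 q F)
  -- the image of the centraliser is read off from the similitudes of the form
  have hsplit : ∀ (K : Subgroup U) (A : Matrix (Fin n) (Fin n) F₀), D.R γ A →
      (∀ (x₀ : GL (Fin n) F₀) (c : F₀ˣ) (t : Fˣ), (x₀ : Matrix (Fin n) (Fin n) F₀)ᵀ * A *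
          (x₀ : Matrix (Fin n) (Fin n) F₀) = (c : F₀) • A → s.iU c * (t * s.sU t) = 1 →
        ∀ u : U, (u : Fˣ) = s.iU (Matrix.GeneralLinearGroup.det x₀) * t ^ n →
          u ∈ K ⊔ (powMonoidHom n : U →* U).range) →
      (∀ u ∈ K, ∃ (x₀ : GL (Fin n) F₀) (c : F₀ˣ) (t : Fˣ), (x₀ : Matrix (Fin n) (Fin n) F₀)ᵀ * A *
          (x₀ : Matrix (Fin n) (Fin n) F₀) = (c : F₀) • A ∧ s.iU c * (t * s.sU t) = 1 ∧
          (u : Fˣ) = s.iU (Matrix.GeneralLinearGroup.det x₀) * t ^ n) →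
      Cfsg.splitClassCount (inndiagPSU n F q) (Cfsg.Inn (PSU n F q)) γ =
        (K ⊔ (powMonoidHom n : U →* U).range).index := by
    intro K A hR h1 h2
    rw [hD] at hR
    obtain ⟨A₀, k, g, e, l, rfl, rfl, hg, hA⟩ := hR
    rw [split_eq hF hn]
    congr 1
    apply le_antisymm
    · refine sup_le ?_ le_sup_right
      rintro _ ⟨h, hh, rfl⟩
      obtain ⟨x₀, c, t, hx, hct, hhe⟩ := (s.mem_cent hg hA h).1 hh
      refine h1 x₀ c t (sim_of_gl hx) hct _ ?_
      rw [detU_coe, hhe, s.det_elt]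
    · refine sup_le ?_ le_sup_right
      intro u hu
      obtain ⟨x₀, c, t, hx, hct, hue⟩ := h2 u hu
      have hm := s.exists_GU hA (gl_of_sim hx) hct
      refine Subgroup.mem_sup_left ⟨⟨_, hm⟩, (s.mem_cent hg hA ⟨_, hm⟩).2 ⟨x₀, c, t, gl_of_sim hx, hct, rfl⟩,
        Subtype.ext ?_⟩
      rw [detU_coe, s.det_elt, ← hue]
  -- elements of norm one as quotients
  have hprep : ∀ u : U, ∃ (t : Fˣ) (c : F₀ˣ), s.iU c * (t * s.sU t) = 1 ∧ (u : Fˣ) = s.iU c * t ^ 2 := by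
    intro u
    obtain ⟨t, ht⟩ := s.exists_twist ((s.mem_U1_iff _).1 u.2)
    obtain ⟨c, hc⟩ := s.exists_iU (c := (t * s.sU t)⁻¹) (by rw [map_inv, map_mul, s.sU_sU, mul_comm])
    refine ⟨t, c, by rw [hc, inv_mul_cancel], ?_⟩
    rw [hc, ← ht, mul_inv, pow_two, div_eq_mul_inv]
    rw [mul_mul_mul_comm, inv_mul_cancel, one_mul, mul_comm]
  have hU : ∀ (c : F₀ˣ) (t : Fˣ), s.iU c * (t * s.sU t) = 1 → s.iU c * t ^ 2 ∈ U1 q F := fun c t h => by
    rw [s.mem_U1_iff, map_mul, map_pow, s.sU_iU]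
    calc s.iU c * t ^ 2 * (s.iU c * s.sU t ^ 2) = (s.iU c * (t * s.sU t)) ^ 2 := by
          rw [mul_pow, mul_pow, mul_mul_mul_comm, ← pow_two (s.iU c)]
      _ = 1 := by rw [h, one_pow]
  have h2odd : Odd q → (2 : F₀) ≠ 0 := fun h => cast_two_of_card_odd (hF₀ ▸ h)
  have hdets : ∀ (m : ℕ), n = 2 * m → ∀ (x : GL (Fin n) F₀) (c : F₀ˣ) (t : Fˣ),
      ((x : Matrix (Fin n) (Fin n) F₀).det = (c : F₀) ^ m →
        s.iU (Matrix.GeneralLinearGroup.det x) * t ^ n = (s.iU c * t ^ 2) ^ m) ∧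
      ((x : Matrix (Fin n) (Fin n) F₀).det = -(c : F₀) ^ m →
        s.iU (Matrix.GeneralLinearGroup.det x) * t ^ n = -(s.iU c * t ^ 2) ^ m) := by
    intro m hnm x c t
    have ht : t ^ n = (t ^ 2) ^ m := by rw [← pow_mul]; exact congrArg (t ^ ·) hnm
    refine ⟨fun hx => ?_, fun hx => ?_⟩
    · rw [show Matrix.GeneralLinearGroup.det x = c ^ m from Units.ext
        (by rw [Matrix.GeneralLinearGroup.val_det_apply, hx]; rfl), map_pow, ht, ← mul_pow]
    · rw [show Matrix.GeneralLinearGroup.det x = -c ^ m from Units.ext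
        (by rw [Matrix.GeneralLinearGroup.val_det_apply, hx]; rfl), ht, mul_pow,
        show s.iU (-c ^ m) = -(s.iU c) ^ m from Units.ext (by simp [iU]), neg_mul]
  refine ⟨?_, ?_, fun h => ?_⟩
  · rintro ⟨⟨m, hm⟩, hodd, hiso⟩
    have h2 := h2odd hodd
    have hnm : n = 2 * m := by omega
    rw [show n / 2 = m by omega] at hiso ⊢
    obtain ⟨A, hR, hd, halt, -⟩ := types D h2 hnm (by omega) hγ
    obtain ⟨hdet, hex⟩ := det_sim_alt hd (halt hiso) (m := m) (by rw [Fintype.card_fin, hnm])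
    have hdetU : ∀ (x : GL (Fin n) F₀) (c : F₀ˣ), (x : Matrix (Fin n) (Fin n) F₀).det = (c : F₀) ^ m →
        ∀ t : Fˣ, s.iU (Matrix.GeneralLinearGroup.det x) * t ^ n = (s.iU c * t ^ 2) ^ m :=
      fun x c hx t => (hdets m hnm x c t).1 hx
    rw [hsplit (powMonoidHom m : U →* U).range A hR
      (fun x₀ c t hx hct u hu => Subgroup.mem_sup_left
        ⟨⟨_, hU c t hct⟩, Subtype.ext ((hdetU x₀ c (hdet x₀ c hx) t).symm.trans hu.symm)⟩)
      (by
        rintro _ ⟨u, rfl⟩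
        obtain ⟨t, c, hct, hu⟩ := hprep u
        obtain ⟨g, hg, hgd⟩ := hex c
        refine ⟨g, c, t, hg, hct, ?_⟩
        rw [hdetU g c hgd t, ← hu]
        rfl)]
    rw [hnm, index_pow_sup, hcardU]
  · rintro ⟨⟨m, hm⟩, hodd, hiso⟩
    have h2 := h2odd hodd
    have hnm : n = 2 * m := by omega
    rw [show n / 2 = m by omega] at hiso
    obtain ⟨A, hR, hd, -, hsym⟩ := types D h2 hnm (by omega) hγ
    have hs := hsym hiso
    have hcI : Fintype.card (Fin n) = 2 * m := by rw [Fintype.card_fin, hnm]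
    let w : U := ⟨-1, MonoidHom.mem_ker.2 (by
      rw [powMonoidHom_apply]; exact (hodd.add_one).neg_one_pow)⟩
    have hA : ∀ (x₀ : GL (Fin n) F₀) (c : F₀ˣ) (t : Fˣ), (x₀ : Matrix (Fin n) (Fin n) F₀)ᵀ * A *
          (x₀ : Matrix (Fin n) (Fin n) F₀) = (c : F₀) • A → s.iU c * (t * s.sU t) = 1 →
        ∀ u : U, (u : Fˣ) = s.iU (Matrix.GeneralLinearGroup.det x₀) * t ^ n →
          u ∈ (powMonoidHom 2 : U →* U).ker ⊔ (powMonoidHom m : U →* U).range ⊔
            (powMonoidHom n : U →* U).range := by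
      intro x₀ c t hx hct u hu
      refine Subgroup.mem_sup_left ?_
      rcases det_sim_symm hd hcI x₀ c hx with h | h
      · refine Subgroup.mem_sup_right ⟨⟨_, hU c t hct⟩, Subtype.ext ?_⟩
        rw [hu, (hdets m hnm x₀ c t).1 h]
        rfl
      · refine Subgroup.mem_sup.2 ⟨w, MonoidHom.mem_ker.2 (Subtype.ext (show ((-1 : Fˣ)) ^ 2 = 1 from neg_one_sq)),
          (⟨_, hU c t hct⟩ : U) ^ m, ⟨_, rfl⟩, Subtype.ext ?_⟩
        rw [hu, (hdets m hnm x₀ c t).2 h]
        show (-1 : Fˣ) * _ = _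
        rw [neg_one_mul]
        rfl
    have hB : ∀ u ∈ (powMonoidHom 2 : U →* U).ker ⊔ (powMonoidHom m : U →* U).range,
        ∃ (x₀ : GL (Fin n) F₀) (c : F₀ˣ) (t : Fˣ), (x₀ : Matrix (Fin n) (Fin n) F₀)ᵀ * A *
          (x₀ : Matrix (Fin n) (Fin n) F₀) = (c : F₀) • A ∧ s.iU c * (t * s.sU t) = 1 ∧
          (u : Fˣ) = s.iU (Matrix.GeneralLinearGroup.det x₀) * t ^ n := by
      intro u hu
      obtain ⟨z, hz2, _, ⟨v, rfl⟩, rfl⟩ := Subgroup.mem_sup.1 hu
      obtain ⟨t, c, hct, hv⟩ := hprep v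
      obtain ⟨⟨g, hg, hgd⟩, g', hg', hgd'⟩ := exists_sim_symm h2 hd hs hcI (by omega) c
      have hz2' : ((z : Fˣ)) ^ 2 = 1 := congrArg Subtype.val (MonoidHom.mem_ker.1 hz2)
      have hz : ((z : Fˣ) : F) * ((z : Fˣ) : F) = 1 := by
        rw [← Units.val_mul, ← pow_two, hz2', Units.val_one]
      rcases mul_self_eq_one_iff.1 hz with h | h
      · refine ⟨g, c, t, hg, hct, ?_⟩
        rw [(hdets m hnm g c t).1 hgd, ← hv]
        show (z : Fˣ) * (v : Fˣ) ^ m = _
        rw [show (z : Fˣ) = 1 from Units.ext h, one_mul]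
      · refine ⟨g', c, t, hg', hct, ?_⟩
        rw [(hdets m hnm g' c t).2 hgd', ← hv]
        show (z : Fˣ) * (v : Fˣ) ^ m = _
        rw [show (z : Fˣ) = -1 from Units.ext h, neg_one_mul]
    rw [hsplit _ A hR hA hB, hnm, index_pm_sup m ?_, hcardU]
    rw [hcardU]
    exact even_iff_two_dvd.1 hodd.add_one
  · obtain ⟨A, hR, hd, -⟩ := D.total γ hγ
    have hpar : Odd (Fintype.card (Fin n)) ∨ (2 : F₀) = 0 := by
      rcases Nat.even_or_odd n with he | ho
      · right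
        have hq : Even (Fintype.card F₀) := by
          rw [hF₀]; exact Nat.not_odd_iff_even.1 fun ho => h ⟨he, ho⟩
        have hc := FiniteField.even_card_iff_char_two.2 (Nat.even_iff.1 hq)
        haveI := ringChar.of_eq hc
        exact CharP.cast_eq_zero F₀ 2
      · exact Or.inl (by rwa [Fintype.card_fin])
    rw [hsplit ⊥ A hR ?_ ?_, bot_sup_eq, index_pow_range, hcardU]
    · intro x₀ c t hx hct u hu
      obtain ⟨d, hcd, hdd⟩ := det_sim_power hd hpar x₀ c hx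
      refine Subgroup.mem_sup_right ⟨⟨s.iU d * t, (s.mem_U1_iff _).2 ?_⟩, Subtype.ext ?_⟩
      · rw [map_mul, s.sU_iU, mul_mul_mul_comm, ← map_mul, ← hcd, hct]
      · rw [hu, hdd, Fintype.card_fin, map_pow]
        exact mul_pow _ _ _
    · intro u hu
      obtain rfl := Subgroup.mem_bot.1 hu
      exact ⟨1, 1, 1, by simp, by simp, by simp⟩

theorem field_centralizer (hodd : Odd q) (hF₀ : Fintype.card F₀ = q) {m : ℕ} (hnm : n = 2 * m) (hme : Even m) :
    Nonempty (↥(inndiagPSU n F q ⊓ Subgroup.centralizer {s.φ}) ≃* Cfsg.PGO F₀ (Cfsg.quadFormPlus m F₀)) := by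
  obtain ⟨D, hD⟩ := s.exists_data
  have hR : s.R s.φ (1 : Matrix (Fin n) (Fin n) F₀) :=
    ⟨1, 1, 1, 1, 1, Units.val_one, by rw [map_one, one_mul],
      by rw [twist, map_one, inv_one, mul_one, Setup.S_one]; simp,
      by rw [herm, inv_one, map_one, map_one, map_one, Setup.S_one]⟩
  rw [← hD] at hR
  obtain ⟨e⟩ := D.cent _ _ hR
  have h2 : (2 : F₀) ≠ 0 := cast_two_of_card_odd (hF₀ ▸ hodd)
  let i : Fin m ⊕ Fin m ≃ Fin n := Fintype.equivFinOfCardEq (by simp; omega)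
  have heven : Even (Fintype.card (Fin n)) := by rw [Fintype.card_fin, hnm]; exact even_two_mul _
  obtain ⟨e'⟩ := pgo_equiv (quadSim_plus h2 m) (A := (1 : Matrix (Fin n) (Fin n) F₀))
    (((sim_even_iff h2 heven (by simp) (B := Matrix.reindex i i (symPlus m F₀))
      (by rw [Matrix.det_reindex_self, symPlus_det]; exact pow_ne_zero _ (neg_ne_zero.2 one_ne_zero))
      Matrix.transpose_one (by rw [Matrix.transpose_reindex, symPlus_transpose])).2
        (by rw [Matrix.det_one, one_mul, Matrix.det_reindex_self, symPlus_det, hme.neg_one_pow]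
            exact IsSquare.one)).trans (cong_reindex i _).symm.sim)
  exact ⟨e.trans e'⟩

end Setup

end Cfsg.Agent.GraphAut.PSU
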